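import Cfsg.Agent.Lib.Helper41.CL1
import Cfsg.Agent.Lib.Helper41.CritSub

set_option autoImplicit false
open Pointwise

namespace Cfsg.Agent.Lib.Helper41.CL

open Cfsg.Agent.Lib.Helper58

variable {G : Type*} [Group G]

theorem cj_sup (g : G) (H K : Subgroup G) : cj g (H ⊔ K) = cj g H ⊔ cj g K :=
  Subgroup.map_sup H K _

theorem cj_iSup {ι : Sort*} (g : G) (s : ι → Subgroup G) : cj g (⨆ i, s i) = ⨆ i, cj g (s i) :=
  Subgroup.map_iSup _ s

theorem cj_inf_le (g : G) (H K : Subgroup G) : cj g (H ⊓ K) ≤ cj g H ⊓ cj g K :=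
  le_inf (cj_mono inf_le_left) (cj_mono inf_le_right)

theorem cj_eq_of_mem_normalizer {g : G} {H : Subgroup G}
    (h : g ∈ Subgroup.normalizer (H : Set G)) : cj g H = H := by
  ext x
  rw [mem_cj]
  exact ((Subgroup.mem_normalizer_iff''.mp h) x).symm

theorem le_normalizer_of_cj_le {F H : Subgroup G} (h : ∀ f ∈ F, cj f H ≤ H) :
    F ≤ Subgroup.normalizer (H : Set G) := by
  rw [Subgroup.le_normalizer_iff]
  intro f hf k hk
  apply h f hf
  rw [mem_cj]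
  simpa [mul_assoc] using hk

theorem cj_eq_of_forall_le {F H : Subgroup G} (h : ∀ f ∈ F, cj f H ≤ H) {f : G} (hf : f ∈ F) :
    cj f H = H := by
  apply le_antisymm (h f hf)
  have := h f⁻¹ (F.inv_mem hf)
  rw [cj_le_iff, inv_inv] at this
  exact this

/-- The `B`-core of `A`. -/
def coreB (B A : Subgroup G) : Subgroup G := ⨅ b : B, cj (b : G) A

theorem coreB_le {B A : Subgroup G} {b : G} (hb : b ∈ B) : coreB B A ≤ cj b A :=
  iInf_le (fun b : B => cj (b : G) A) ⟨b, hb⟩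

theorem le_coreB {B A K : Subgroup G} (h : ∀ b ∈ B, K ≤ cj b A) : K ≤ coreB B A :=
  le_iInf (fun b => h b.1 b.2)

theorem mem_coreB {B A : Subgroup G} {x : G} : x ∈ coreB B A ↔ ∀ b ∈ B, b⁻¹ * x * b ∈ A := by
  unfold coreB
  rw [Subgroup.mem_iInf]
  constructor
  · intro h b hb
    exact mem_cj.mp (h ⟨b, hb⟩)
  · intro h b
    exact mem_cj.mpr (h b.1 b.2)

theorem coreB_le_self (B A : Subgroup G) : coreB B A ≤ A := by
  have := coreB_le (A := A) B.one_mem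
  rwa [cj_one] at this

theorem cj_coreB_le {B A : Subgroup G} {b₀ : G} (hb₀ : b₀ ∈ B) : cj b₀ (coreB B A) ≤ coreB B A := by
  apply le_coreB
  intro b hb
  rw [cj_le_iff, cj_cj]
  exact coreB_le (B.mul_mem (B.inv_mem hb₀) hb)

theorem cj_coreB_le_of {F B A : Subgroup G}
    (hsw : ∀ f ∈ F, ∀ b ∈ B, ∃ b' ∈ B, ∃ f' ∈ F, f * b = b' * f')
    (hFA : ∀ f ∈ F, cj f A = A) {f : G} (hf : f ∈ F) : cj f (coreB B A) ≤ coreB B A := by
  apply le_coreB
  intro b hb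
  rw [cj_le_iff, cj_cj]
  obtain ⟨b', hb', f', hf', h⟩ := hsw f⁻¹ (F.inv_mem hf) b hb
  rw [h, ← cj_cj, hFA f' hf']
  exact coreB_le hb'

/-- The `B`-closure of `A`. -/
def clB (B A : Subgroup G) : Subgroup G := ⨆ b : B, cj (b : G) A

theorem cj_le_clB {B A : Subgroup G} {b : G} (hb : b ∈ B) : cj b A ≤ clB B A :=
  le_iSup (fun b : B => cj (b : G) A) ⟨b, hb⟩

theorem clB_le {B A K : Subgroup G} (h : ∀ b ∈ B, cj b A ≤ K) : clB B A ≤ K :=
  iSup_le (fun b => h b.1 b.2)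

theorem self_le_clB (B A : Subgroup G) : A ≤ clB B A := by
  have := cj_le_clB (A := A) B.one_mem
  rwa [cj_one] at this

theorem cj_clB_le {B A : Subgroup G} {b₀ : G} (hb₀ : b₀ ∈ B) : cj b₀ (clB B A) ≤ clB B A := by
  unfold clB
  rw [cj_iSup]
  apply iSup_le
  intro b
  rw [cj_cj]
  exact cj_le_clB (B.mul_mem hb₀ b.2)

theorem cj_clB_le_of {F B A : Subgroup G}
    (hsw : ∀ f ∈ F, ∀ b ∈ B, ∃ b' ∈ B, ∃ f' ∈ F, f * b = b' * f')
    (hFA : ∀ f ∈ F, cj f A = A) {f : G} (hf : f ∈ F) : cj f (clB B A) ≤ clB B A := by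
  unfold clB
  rw [cj_iSup]
  apply iSup_le
  intro b
  rw [cj_cj]
  obtain ⟨b', hb', f', hf', h⟩ := hsw f hf b b.2
  rw [h, ← cj_cj, hFA f' hf']
  exact cj_le_clB hb'

theorem swap1 {F B : Subgroup G}
    (hFB : ((F ⊔ B : Subgroup G) : Set G) = (F : Set G) * (B : Set G)) {f b : G}
    (hf : f ∈ F) (hb : b ∈ B) : ∃ b' ∈ B, ∃ f' ∈ F, f * b = b' * f' := by
  have h : (f * b)⁻¹ ∈ ((F ⊔ B : Subgroup G) : Set G) :=
    (F ⊔ B).inv_mem (Subgroup.mul_mem_sup hf hb)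
  rw [hFB] at h
  obtain ⟨f₁, hf₁, b₁, hb₁, h⟩ := Set.mem_mul.mp h
  refine ⟨b₁⁻¹, B.inv_mem hb₁, f₁⁻¹, F.inv_mem hf₁, ?_⟩
  rw [← mul_inv_rev, h, inv_inv]

theorem swap2 {F B : Subgroup G}
    (hFB : ((F ⊔ B : Subgroup G) : Set G) = (F : Set G) * (B : Set G)) {f b : G}
    (hf : f ∈ F) (hb : b ∈ B) : ∃ f' ∈ F, ∃ b' ∈ B, b * f = f' * b' := by
  have h : b * f ∈ ((F ⊔ B : Subgroup G) : Set G) :=
    (F ⊔ B).mul_mem (Subgroup.mem_sup_right hb) (Subgroup.mem_sup_left hf)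
  rw [hFB] at h
  obtain ⟨f₁, hf₁, b₁, hb₁, h⟩ := Set.mem_mul.mp h
  exact ⟨f₁, hf₁, b₁, hb₁, h.symm⟩

theorem exists_central_mod_aux {p : ℕ} [Fact p.Prime] {H : Type*} [Group H] [Finite H]
    (hH : IsPGroup p H) (N R : Subgroup H) [N.Normal] [R.Normal] (hNR : N ≤ R) (hne : N ≠ R) :
    ∃ r ∈ R, r ∉ N ∧ ∀ g : H, g * r * g⁻¹ * r⁻¹ ∈ N := by
  haveI hRn : (R.map (QuotientGroup.mk' N)).Normal :=
    Subgroup.Normal.map inferInstance _ (QuotientGroup.mk'_surjective N)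
  have hbar : R.map (QuotientGroup.mk' N) ≠ ⊥ := by
    intro h
    apply hne
    apply le_antisymm hNR
    intro x hx
    have : QuotientGroup.mk' N x ∈ R.map (QuotientGroup.mk' N) := Subgroup.mem_map_of_mem _ hx
    rw [h, Subgroup.mem_bot] at this
    exact (QuotientGroup.eq_one_iff x).mp this
  have h2 := Cfsg.Agent.Lib.Helper41.normal_inf_center_ne_bot p (hH.to_quotient N) _ hbar
  obtain ⟨⟨z, hz⟩, hz1⟩ := Subgroup.ne_bot_iff_exists_ne_one.mp h2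
  obtain ⟨⟨r, hr, rfl⟩, hzc⟩ := Subgroup.mem_inf.mp hz
  refine ⟨r, hr, ?_, ?_⟩
  · intro hrN
    apply hz1
    apply Subtype.ext
    exact (QuotientGroup.eq_one_iff r).mpr hrN
  · intro g
    rw [← QuotientGroup.eq_one_iff]
    have h3 := Subgroup.mem_center_iff.mp hzc (QuotientGroup.mk' N g)
    simp only [QuotientGroup.mk'_apply] at h3
    rw [QuotientGroup.mk_mul, QuotientGroup.mk_mul, QuotientGroup.mk_mul, QuotientGroup.mk_inv,
      QuotientGroup.mk_inv, h3]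
    group

theorem exists_central_mod {p : ℕ} [Fact p.Prime] [Finite G] (hG : IsPGroup p G)
    (N R X : Subgroup G) (hNR : N ≤ R) (hne : N ≠ R)
    (hXN : X ≤ Subgroup.normalizer (N : Set G)) (hXR : X ≤ Subgroup.normalizer (R : Set G))
    (hRN : R ≤ Subgroup.normalizer (N : Set G)) :
    ∃ r ∈ R, r ∉ N ∧ ∀ g ∈ X, g * r * g⁻¹ * r⁻¹ ∈ N := by
  obtain ⟨Y, hYdef⟩ : ∃ Y : Subgroup G,
      Y = Subgroup.normalizer (N : Set G) ⊓ Subgroup.normalizer (R : Set G) := ⟨_, rfl⟩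
  have hNY : N ≤ Y := by
    rw [hYdef]
    exact le_inf Subgroup.le_normalizer (le_trans hNR Subgroup.le_normalizer)
  have hRY : R ≤ Y := by
    rw [hYdef]
    exact le_inf hRN Subgroup.le_normalizer
  have hXY : X ≤ Y := by
    rw [hYdef]
    exact le_inf hXN hXR
  haveI : (N.subgroupOf Y).Normal :=
    (Subgroup.normal_subgroupOf_iff_le_normalizer hNY).mpr (by rw [hYdef]; exact inf_le_left)
  haveI : (R.subgroupOf Y).Normal :=
    (Subgroup.normal_subgroupOf_iff_le_normalizer hRY).mpr (by rw [hYdef]; exact inf_le_right)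
  have hle : N.subgroupOf Y ≤ R.subgroupOf Y := fun x hx =>
    Subgroup.mem_subgroupOf.mpr (hNR (Subgroup.mem_subgroupOf.mp hx))
  have hne' : N.subgroupOf Y ≠ R.subgroupOf Y := by
    intro h
    apply hne
    apply le_antisymm hNR
    intro x hx
    have h1 : (⟨x, hRY hx⟩ : Y) ∈ R.subgroupOf Y := Subgroup.mem_subgroupOf.mpr hx
    rw [← h] at h1
    exact Subgroup.mem_subgroupOf.mp h1
  obtain ⟨r, hr, hrN, hcomm⟩ :=
    exists_central_mod_aux (hG.to_subgroup Y) (N.subgroupOf Y) (R.subgroupOf Y) hle hne'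
  refine ⟨(r : G), Subgroup.mem_subgroupOf.mp hr, fun h => hrN (Subgroup.mem_subgroupOf.mpr h), ?_⟩
  intro g hg
  have := hcomm ⟨g, hXY hg⟩
  rw [Subgroup.mem_subgroupOf] at this
  simpa using this

theorem count_aux (n ρ a c₀ k q cc M : ℕ) (hn : 0 < n) (ha : 0 < a) (hk : 0 < k)
    (hI : n * ρ ≤ a * c₀) (hII : c₀ * k ≤ cc * n) (hIII : a * k ≤ q * n) (haq : a * q = M)
    (hρk : ρ * k = M) : M ≤ c₀ * cc := by
  have hIV : a * a ≤ ρ * n := by
    apply Nat.le_of_mul_le_mul_right _ hk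
    calc a * a * k = a * (a * k) := by ring
      _ ≤ a * (q * n) := Nat.mul_le_mul_left _ hIII
      _ = (a * q) * n := by ring
      _ = (ρ * k) * n := by rw [haq, hρk]
      _ = ρ * n * k := by ring
  have hpos : 0 < n * (a * a) := Nat.mul_pos hn (Nat.mul_pos ha ha)
  apply Nat.le_of_mul_le_mul_right _ hpos
  calc M * (n * (a * a)) ≤ M * (n * (ρ * n)) :=
        Nat.mul_le_mul_left _ (Nat.mul_le_mul_left _ hIV)
    _ = k * ((n * ρ) * (n * ρ)) := by rw [← hρk]; ring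
    _ ≤ k * ((a * c₀) * (a * c₀)) := Nat.mul_le_mul_left _ (Nat.mul_le_mul hI hI)
    _ = (a * a * c₀) * (c₀ * k) := by ring
    _ ≤ (a * a * c₀) * (cc * n) := Nat.mul_le_mul_left _ hII
    _ = c₀ * cc * (n * (a * a)) := by ring

end Cfsg.Agent.Lib.Helper41.CL
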