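import Mathlib

set_option autoImplicit false

namespace Cfsg.Agent.Lib.Helper41

open scoped commutatorElement

/-- If `y * x = x * y * c` with `c` commuting with `y`, then `y ^ n * x = x * y ^ n * c ^ n`. -/
theorem pow_mul_comm_central {D : Type*} [Group D] (x y c : D) (hc : y * x = x * y * c)
    (hcy : Commute c y) (n : ℕ) : y ^ n * x = x * y ^ n * c ^ n := by
  induction n with
  | zero => simp
  | succ n ih =>
    calc y ^ (n + 1) * x = y ^ n * (y * x) := by rw [pow_succ, mul_assoc]
      _ = y ^ n * x * (y * c) := by rw [hc]; simp only [mul_assoc]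
      _ = x * y ^ n * c ^ n * (y * c) := by rw [ih]
      _ = x * y ^ n * (c ^ n * y) * c := by simp only [mul_assoc]
      _ = x * y ^ n * (y * c ^ n) * c := by rw [(hcy.pow_left n).eq]
      _ = x * y ^ (n + 1) * c ^ (n + 1) := by rw [pow_succ, pow_succ]; simp only [mul_assoc]

/-- Class-two power formula: if `y * x = x * y * c` with `c` commuting with `x` and `y`, then
`(x * y) ^ n = x ^ n * y ^ n * c ^ (n * (n - 1) / 2)`. -/
theorem mul_pow_central {D : Type*} [Group D] (x y c : D) (hc : y * x = x * y * c)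
    (hcx : Commute c x) (hcy : Commute c y) (n : ℕ) :
    (x * y) ^ n = x ^ n * y ^ n * c ^ (n * (n - 1) / 2) := by
  induction n with
  | zero => simp
  | succ n ih =>
    have h1 := pow_mul_comm_central x y c hc hcy n
    rw [pow_succ, ih, Nat.triangle_succ]
    have hck : Commute (c ^ (n * (n - 1) / 2)) x := hcx.pow_left _
    have hck' : Commute (c ^ (n * (n - 1) / 2)) y := hcy.pow_left _
    have hcn : Commute (c ^ n) y := hcy.pow_left _
    calc x ^ n * y ^ n * c ^ (n * (n - 1) / 2) * (x * y)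
        = x ^ n * y ^ n * (c ^ (n * (n - 1) / 2) * x) * y := by simp only [mul_assoc]
      _ = x ^ n * y ^ n * (x * c ^ (n * (n - 1) / 2)) * y := by rw [hck.eq]
      _ = x ^ n * (y ^ n * x) * (c ^ (n * (n - 1) / 2) * y) := by simp only [mul_assoc]
      _ = x ^ n * (x * y ^ n * c ^ n) * (y * c ^ (n * (n - 1) / 2)) := by rw [h1, hck'.eq]
      _ = x ^ n * x * y ^ n * (c ^ n * y) * c ^ (n * (n - 1) / 2) := by simp only [mul_assoc]
      _ = x ^ n * x * y ^ n * (y * c ^ n) * c ^ (n * (n - 1) / 2) := by rw [hcn.eq]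
      _ = x ^ (n + 1) * y ^ (n + 1) * c ^ (n * (n - 1) / 2 + n) := by
          rw [pow_succ, pow_succ, pow_add, ← (Commute.pow_pow_self c n (n * (n - 1) / 2)).eq]
          simp only [mul_assoc]

/-- In a monoid where `a ↦ a ^ p` is injective, an element killed by a power of `p` is trivial. -/
theorem eq_one_of_pow_injective {A : Type*} [Monoid A] {p : ℕ}
    (hinj : Function.Injective (fun a : A => a ^ p)) (k : ℕ) :
    ∀ a : A, a ^ p ^ k = 1 → a = 1 := by
  induction k with
  | zero => intro a ha; simpa using ha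
  | succ k ih =>
    intro a ha
    apply hinj
    show a ^ p = 1 ^ p
    rw [one_pow]
    apply ih
    rw [← pow_mul, ← pow_succ']
    exact ha

/-- Coprime action: if `φ` has order dividing `m` (coprime to `p`) on a `p`-group and fixes
`x⁻¹ * φ x`, then it fixes `x`. -/
theorem fix_of_comm_fixed {D : Type*} [Group D] {p : ℕ} (hD : IsPGroup p D)
    (φ : D →* D) (m : ℕ) (hm : m.Coprime p) (hφ : ∀ x, φ^[m] x = x) (x : D)
    (hx : φ (x⁻¹ * φ x) = x⁻¹ * φ x) : φ x = x := by
  have hφx : φ x = x * (x⁻¹ * φ x) := by group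
  have h1 : ∀ j : ℕ, φ^[j] x = x * (x⁻¹ * φ x) ^ j := by
    intro j
    induction j with
    | zero => simp
    | succ j ih =>
      rw [Function.iterate_succ_apply', ih, map_mul, map_pow, hx]
      calc φ x * (x⁻¹ * φ x) ^ j = x * (x⁻¹ * φ x) * (x⁻¹ * φ x) ^ j := by rw [← hφx]
        _ = x * (x⁻¹ * φ x) ^ (j + 1) := by rw [pow_succ', mul_assoc]
  have h2 : (x⁻¹ * φ x) ^ m = 1 := by
    have h := h1 m
    rw [hφ] at h
    exact mul_eq_left.mp h.symm
  obtain ⟨k, hk⟩ := hD (x⁻¹ * φ x)
  have ho1 : orderOf (x⁻¹ * φ x) ∣ m := orderOf_dvd_of_pow_eq_one h2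
  have ho2 : orderOf (x⁻¹ * φ x) ∣ p ^ k := orderOf_dvd_of_pow_eq_one hk
  have ho : orderOf (x⁻¹ * φ x) = 1 :=
    Nat.Coprime.eq_one_of_dvd (Nat.Coprime.pow_right k (Nat.Coprime.coprime_dvd_left ho1 hm)) ho2
  have h3 : x⁻¹ * φ x = 1 := orderOf_eq_one_iff.mp ho
  exact (inv_mul_eq_one.mp h3).symm

/-- The exponent of a minimal `φ`-invariant subgroup on which a coprime `φ` acts non-trivially. -/
theorem exponent_of_minimal {D : Type*} [Group D] [Finite D] {p : ℕ} [Fact p.Prime]
    (hD : IsPGroup p D) (φ : D →* D) (m : ℕ) (hm : m.Coprime p) (hφ : ∀ x, φ^[m] x = x)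
    (hgen : Subgroup.closure {y : D | ∃ x : D, y = x⁻¹ * φ x} = ⊤)
    (hmin : ∀ E : Subgroup D, (∀ e ∈ E, φ e ∈ E) → E ≠ ⊤ → ∀ e ∈ E, φ e = e) :
    ∀ d : D, d ^ p = 1 ∨ (p = 2 ∧ d ^ 4 = 1) := by
  have hp : p.Prime := Fact.out
  have hm0 : m ≠ 0 := by
    rintro rfl
    rw [Nat.coprime_zero_left] at hm
    exact hp.one_lt.ne' hm
  have hsurj : Function.Surjective φ := by
    intro x
    refine ⟨φ^[m - 1] x, ?_⟩
    rw [← Function.iterate_succ_apply' φ (m - 1) x, Nat.succ_eq_add_one,
      Nat.sub_add_cancel (Nat.pos_of_ne_zero hm0), hφ]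
  have hK : ∀ K : Subgroup D, (∀ x : D, x⁻¹ * φ x ∈ K) → K = ⊤ := by
    intro K hK
    rw [eq_top_iff, ← hgen, Subgroup.closure_le]
    rintro y ⟨x, rfl⟩
    exact hK x
  by_cases hab : ∀ x y : D, x * y = y * x
  · -- abelian case
    let π : D →* D :=
      { toFun := fun x => x ^ p
        map_one' := one_pow p
        map_mul' := fun x y => (show Commute x y from hab x y).mul_pow p }
    have hπ : ∀ x, π x = x ^ p := fun x => rfl
    by_cases hR : π.range = ⊤
    · have hsur : Function.Surjective π := MonoidHom.range_eq_top.mp hR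
      have hinj : Function.Injective π := Finite.injective_iff_surjective.mpr hsur
      intro d
      left
      obtain ⟨k, hk⟩ := hD d
      rw [eq_one_of_pow_injective hinj k d hk, one_pow]
    · have hfix := hmin π.range (by
        rintro _ ⟨x, rfl⟩
        exact ⟨φ x, by rw [hπ, hπ, map_pow]⟩) hR
      have hker : π.ker = ⊤ := hK _ (by
        intro x
        rw [MonoidHom.mem_ker, hπ, (show Commute x⁻¹ (φ x) from hab _ _).mul_pow, inv_pow,
          ← map_pow, hfix (x ^ p) ⟨x, rfl⟩, inv_mul_cancel])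
      intro d
      left
      have : d ∈ π.ker := by rw [hker]; trivial
      exact this
  · -- nonabelian case
    have hZ : Subgroup.center D ≠ ⊤ := by
      intro h
      apply hab
      intro x y
      have : y ∈ Subgroup.center D := by rw [h]; trivial
      exact Subgroup.mem_center_iff.mp this x
    have hZinv : ∀ z ∈ Subgroup.center D, φ z ∈ Subgroup.center D := by
      intro z hz
      rw [Subgroup.mem_center_iff] at hz ⊢
      intro y
      obtain ⟨y', rfl⟩ := hsurj y
      rw [← map_mul, ← map_mul, hz y']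
    have hZfix := hmin _ hZinv hZ
    have : Nontrivial D := by
      by_contra h
      rw [not_nontrivial_iff_subsingleton] at h
      exact hab (fun x y => Subsingleton.elim _ _)
    have : Group.IsNilpotent D := hD.isNilpotent
    have hD' : commutator D ≠ ⊤ := (Group.IsSolvable.commutator_lt_top_of_nontrivial D).ne
    have hD'inv : ∀ z ∈ commutator D, φ z ∈ commutator D := by
      intro z hz
      have : (commutator D).map φ ≤ commutator D := by
        rw [commutator_def, Subgroup.map_commutator]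
        exact Subgroup.commutator_mono le_top le_top
      exact this ⟨z, hz, rfl⟩
    have hD'fix := hmin _ hD'inv hD'
    have hD'Z : commutator D ≤ Subgroup.center D := by
      intro z hz
      have hcent : Subgroup.centralizer ({z} : Set D) = ⊤ := hK _ (by
        intro d
        rw [Subgroup.mem_centralizer_singleton_iff]
        have hn : (commutator D).Normal := inferInstance
        have h1 : φ (d * z * d⁻¹) = d * z * d⁻¹ := hD'fix _ (hn.conj_mem z hz d)
        rw [map_mul, map_mul, map_inv, hD'fix z hz] at h1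
        have h2 : φ d * z = d * z * d⁻¹ * φ d := by rw [← h1]; group
        rw [mul_assoc, h2]; group)
      rw [Subgroup.mem_center_iff]
      intro y
      have : y ∈ Subgroup.centralizer ({z} : Set D) := by rw [hcent]; trivial
      exact Subgroup.mem_centralizer_singleton_iff.mp this
    have hcc : ∀ x y : D, ⁅y, x⁆ ∈ Subgroup.center D := fun x y =>
      hD'Z (Subgroup.commutator_mem_commutator (Subgroup.mem_top y) (Subgroup.mem_top x))
    have hrel : ∀ x y : D, y * x = x * y * ⁅y, x⁆ := by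
      intro x y
      have h1 := Subgroup.mem_center_iff.mp (hcc x y) (x * y)
      rw [h1, commutatorElement_def]; group
    have hcomm : ∀ x y z : D, Commute ⁅y, x⁆ z := fun x y z =>
      (Subgroup.mem_center_iff.mp (hcc x y) z).symm
    -- p-th powers are central
    have hpowZ : ∀ d : D, d ^ p ∈ Subgroup.center D := by
      letI : CommGroup (D ⧸ Subgroup.center D) :=
        { (inferInstance : Group (D ⧸ Subgroup.center D)) with
          mul_comm := by
            intro a b
            obtain ⟨x, rfl⟩ := QuotientGroup.mk_surjective a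
            obtain ⟨y, rfl⟩ := QuotientGroup.mk_surjective b
            rw [← QuotientGroup.mk_mul, ← QuotientGroup.mk_mul, QuotientGroup.eq]
            have : (x * y)⁻¹ * (y * x) = ⁅y, x⁆ := by rw [hrel x y]; group
            rw [this]; exact hcc x y }
      let π : (D ⧸ Subgroup.center D) →* (D ⧸ Subgroup.center D) := powMonoidHom p
      have hπ : ∀ a, π a = a ^ p := fun a => rfl
      let N : Subgroup D := π.range.comap (QuotientGroup.mk' (Subgroup.center D))
      have hN : N ≠ ⊤ := by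
        intro h
        have hsur : Function.Surjective π := by
          intro a
          obtain ⟨x, rfl⟩ := QuotientGroup.mk_surjective a
          have : x ∈ N := by rw [h]; trivial
          exact this
        have hinj : Function.Injective π := Finite.injective_iff_surjective.mpr hsur
        apply hZ
        rw [eq_top_iff]
        intro d _
        obtain ⟨k, hk⟩ := hD d
        have : (QuotientGroup.mk d : D ⧸ Subgroup.center D) = 1 := by
          apply eq_one_of_pow_injective hinj k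
          rw [← QuotientGroup.mk_pow, hk]; rfl
        exact (QuotientGroup.eq_one_iff d).mp this
      have hNinv : ∀ d ∈ N, φ d ∈ N := by
        rintro d ⟨a, ha⟩
        obtain ⟨x, rfl⟩ := QuotientGroup.mk_surjective a
        refine ⟨QuotientGroup.mk (φ x), ?_⟩
        rw [hπ, ← QuotientGroup.mk_pow] at ha ⊢
        have h1 : (x ^ p)⁻¹ * d ∈ Subgroup.center D := QuotientGroup.eq.mp ha
        have h2 := hZinv _ h1
        rw [map_mul, map_inv, map_pow] at h2
        exact QuotientGroup.eq.mpr h2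
      have hNfix := hmin N hNinv hN
      have hpfix : ∀ x : D, φ (x ^ p) = x ^ p := fun x =>
        hNfix _ ⟨QuotientGroup.mk x, by rw [hπ, ← QuotientGroup.mk_pow]; rfl⟩
      have hM : π.ker.comap (QuotientGroup.mk' (Subgroup.center D)) = ⊤ := hK _ (by
        intro x
        show π (QuotientGroup.mk (x⁻¹ * φ x)) = 1
        rw [hπ, QuotientGroup.mk_mul, mul_pow, ← QuotientGroup.mk_pow, ← QuotientGroup.mk_pow,
          inv_pow, ← map_pow, hpfix, ← QuotientGroup.mk_mul, inv_mul_cancel]
        rfl)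
      intro d
      have hd : d ∈ π.ker.comap (QuotientGroup.mk' (Subgroup.center D)) := by rw [hM]; trivial
      have hd' : (QuotientGroup.mk d : D ⧸ Subgroup.center D) ^ p = 1 := hd
      rw [← QuotientGroup.mk_pow] at hd'
      exact (QuotientGroup.eq_one_iff _).mp hd'
    -- commutators have order dividing p
    have hcp : ∀ x y : D, ⁅y, x⁆ ^ p = 1 := by
      intro x y
      have h1 := pow_mul_comm_central x y ⁅y, x⁆ (hrel x y) (hcomm x y y) p
      have h2 := Subgroup.mem_center_iff.mp (hpowZ y) x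
      rw [← h2] at h1
      exact mul_eq_left.mp h1.symm
    -- the q-th power map, q = p * j
    obtain ⟨j, hj, hje⟩ : ∃ j : ℕ, (p = 2 → j = 2) ∧ (p ≠ 2 → j = 1) ∧ p ∣ (p * j) * (p * j - 1) / 2 := by
      by_cases h2 : p = 2
      · exact ⟨2, fun _ => rfl, fun h => absurd h2 h, by subst h2; decide⟩
      · refine ⟨1, fun h => absurd h h2, fun _ => rfl, ?_⟩
        have hodd : Odd p := hp.odd_of_ne_two h2
        obtain ⟨t, ht⟩ := hodd
        have : p * 1 * (p * 1 - 1) / 2 = p * t := by
          rw [mul_one, ht, Nat.add_sub_cancel, ← mul_assoc, mul_comm _ 2, mul_assoc,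
            Nat.mul_div_cancel_left _ (by norm_num : 0 < 2)]
        rw [this]
        exact dvd_mul_right p t
    obtain ⟨hje1, hje2⟩ := hje
    have hmulq : ∀ x y : D, (x * y) ^ (p * j) = x ^ (p * j) * y ^ (p * j) := by
      intro x y
      rw [mul_pow_central x y ⁅y, x⁆ (hrel x y) (hcomm x y x) (hcomm x y y) (p * j)]
      obtain ⟨t, ht⟩ := hje2
      rw [ht, pow_mul ⁅y, x⁆ p t, hcp, one_pow, mul_one]
    let π : D →* D :=
      { toFun := fun x => x ^ (p * j)
        map_one' := one_pow _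
        map_mul' := hmulq }
    have hπ : ∀ x, π x = x ^ (p * j) := fun x => rfl
    have hqfix : ∀ x : D, φ (x ^ (p * j)) = x ^ (p * j) := by
      intro x
      apply hZfix
      rw [pow_mul]
      exact Subgroup.pow_mem _ (hpowZ x) j
    have hker : π.ker = ⊤ := hK _ (by
      intro x
      rw [MonoidHom.mem_ker, map_mul, map_inv, hπ, hπ, ← map_pow, hqfix, inv_mul_cancel])
    intro d
    have hd : d ∈ π.ker := by rw [hker]; trivial
    have hd' : d ^ (p * j) = 1 := hd
    by_cases h2 : p = 2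
    · right
      refine ⟨h2, ?_⟩
      rw [hj h2, h2] at hd'
      exact hd'
    · left
      rw [hje1 h2, mul_one] at hd'
      exact hd'

/-- A coprime endomorphism acting non-trivially on a finite `p`-group acts non-trivially on an
invariant subgroup `D = [D, φ]` of exponent `p` (or `4` when `p = 2`). -/
theorem exists_minimal_invariant {Q : Type*} [Group Q] [Finite Q] {p : ℕ} [Fact p.Prime]
    (hQ : IsPGroup p Q) (φ : Q →* Q) (m : ℕ) (hm : m.Coprime p) (hφ : ∀ x, φ^[m] x = x)
    (hne : ∃ x, φ x ≠ x) :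
    ∃ D : Subgroup Q, (∀ d ∈ D, φ d ∈ D) ∧
      D ≤ Subgroup.closure {y : Q | ∃ d ∈ D, y = d⁻¹ * φ d} ∧
      (∀ d ∈ D, d ^ p = 1 ∨ (p = 2 ∧ d ^ 4 = 1)) ∧ D ≠ ⊥ := by
  obtain ⟨D, hDmin⟩ := Set.Finite.exists_minimal
    (s := {D : Subgroup Q | (∀ d ∈ D, φ d ∈ D) ∧ ∃ d ∈ D, φ d ≠ d}) (Set.toFinite _)
    ⟨⊤, fun _ _ => Subgroup.mem_top _, by
      obtain ⟨x, hx⟩ := hne
      exact ⟨x, Subgroup.mem_top x, hx⟩⟩
  obtain ⟨hDinv, d₀, hd₀, hd₀'⟩ := hDmin.prop
  have hmin : ∀ E : Subgroup Q, E ≤ D → (∀ e ∈ E, φ e ∈ E) → E ≠ D → ∀ e ∈ E, φ e = e := by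
    intro E hED hEinv hne e he
    by_contra hcon
    exact hne (le_antisymm hED (hDmin.le_of_le ⟨hEinv, e, he, hcon⟩ hED))
  have hE₁D : Subgroup.closure {y : Q | ∃ d ∈ D, y = d⁻¹ * φ d} ≤ D := by
    rw [Subgroup.closure_le]
    rintro _ ⟨d, hd, rfl⟩
    exact D.mul_mem (D.inv_mem hd) (hDinv d hd)
  have hE₁inv : ∀ e ∈ Subgroup.closure {y : Q | ∃ d ∈ D, y = d⁻¹ * φ d},
      φ e ∈ Subgroup.closure {y : Q | ∃ d ∈ D, y = d⁻¹ * φ d} := by
    intro e he
    have : (Subgroup.closure {y : Q | ∃ d ∈ D, y = d⁻¹ * φ d}).map φ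
        ≤ Subgroup.closure {y : Q | ∃ d ∈ D, y = d⁻¹ * φ d} := by
      rw [MonoidHom.map_closure, Subgroup.closure_le]
      rintro _ ⟨_, ⟨d, hd, rfl⟩, rfl⟩
      apply Subgroup.subset_closure
      exact ⟨φ d, hDinv d hd, by rw [map_mul, map_inv]⟩
    exact this ⟨e, he, rfl⟩
  have hE₁eq : Subgroup.closure {y : Q | ∃ d ∈ D, y = d⁻¹ * φ d} = D := by
    by_contra hne'
    have hfix := hmin _ hE₁D hE₁inv hne'
    apply hd₀'
    apply fix_of_comm_fixed hQ φ m hm hφ
    exact hfix _ (Subgroup.subset_closure ⟨d₀, hd₀, rfl⟩)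
  let φD : ↥D →* ↥D := (φ.comp D.subtype).codRestrict D (fun d => hDinv d d.2)
  have hφD : ∀ x : ↥D, ((φD x : ↥D) : Q) = φ x := fun x => rfl
  have hφDiter : ∀ (n : ℕ) (x : ↥D), ((φD^[n] x : ↥D) : Q) = φ^[n] x := by
    intro n
    induction n with
    | zero => intro x; rfl
    | succ n ih =>
      intro x
      rw [Function.iterate_succ_apply', Function.iterate_succ_apply', hφD, ih]
  have hgenD : Subgroup.closure {y : ↥D | ∃ x : ↥D, y = x⁻¹ * φD x} = ⊤ := by
    apply Subgroup.map_injective D.subtype_injective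
    rw [MonoidHom.map_closure, ← MonoidHom.range_eq_map, Subgroup.range_subtype]
    conv_rhs => rw [← hE₁eq]
    congr 1
    ext y
    constructor
    · rintro ⟨_, ⟨x, rfl⟩, rfl⟩
      exact ⟨x, x.2, rfl⟩
    · rintro ⟨d, hd, rfl⟩
      exact ⟨(⟨d, hd⟩ : ↥D)⁻¹ * φD ⟨d, hd⟩, ⟨⟨d, hd⟩, rfl⟩, rfl⟩
  have hminD : ∀ E : Subgroup ↥D, (∀ e ∈ E, φD e ∈ E) → E ≠ ⊤ → ∀ e ∈ E, φD e = e := by
    intro E hEinv hEne e he
    have := hmin (E.map D.subtype) (by rintro _ ⟨x, _, rfl⟩; exact x.2) (by
        rintro _ ⟨x, hx, rfl⟩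
        exact ⟨φD x, hEinv x hx, rfl⟩) (by
        intro h
        apply hEne
        apply Subgroup.map_injective D.subtype_injective
        rw [h, ← MonoidHom.range_eq_map, Subgroup.range_subtype]) (e : Q) ⟨e, he, rfl⟩
    exact Subtype.ext this
  have hexp := exponent_of_minimal (hQ.to_subgroup D) φD m hm
    (fun x => Subtype.ext (by rw [hφDiter, hφ])) hgenD hminD
  refine ⟨D, hDinv, hE₁eq.ge, fun d hd => ?_, ?_⟩
  · rcases hexp ⟨d, hd⟩ with h | ⟨h2, h4⟩
    · left
      have := congrArg Subtype.val h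
      simpa using this
    · right
      have := congrArg Subtype.val h4
      exact ⟨h2, by simpa using this⟩
  · rintro rfl
    apply hd₀'
    rw [Subgroup.mem_bot.mp hd₀, map_one]

/-- **Critical subgroup lemma.** If a `p'`-element `g` normalizes but does not centralize the
`p`-subgroup `Q`, then `Q` has a `g`-invariant subgroup `D = [D, g] ≠ 1` all of whose elements
have order dividing `p` (dividing `4` when `p = 2`). -/
theorem exists_crit_sub {G : Type*} [Group G] [Finite G] {p : ℕ} [Fact p.Prime] (Q : Subgroup G)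
    (hQ : IsPGroup p Q) (g : G) (hg : g ∈ Subgroup.normalizer (Q : Set G))
    (hcop : (orderOf g).Coprime p) (hnc : g ∉ Subgroup.centralizer (Q : Set G)) :
    ∃ D : Subgroup G, D ≤ Q ∧ (∀ d ∈ D, g * d * g⁻¹ ∈ D) ∧
      D ≤ Subgroup.closure {y : G | ∃ d ∈ D, y = d⁻¹ * (g * d * g⁻¹)} ∧
      (∀ d ∈ D, d ^ p = 1 ∨ (p = 2 ∧ d ^ 4 = 1)) ∧ D ≠ ⊥ := by
  have hgQ : ∀ x ∈ Q, g * x * g⁻¹ ∈ Q := fun x hx => (Subgroup.mem_normalizer_iff.mp hg x).mp hx
  let φ : ↥Q →* ↥Q := ((MulAut.conj g).toMonoidHom.comp Q.subtype).codRestrict Q (fun x => hgQ x x.2)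
  have hφ : ∀ x : ↥Q, ((φ x : ↥Q) : G) = g * x * g⁻¹ := fun x => rfl
  have hφiter : ∀ (n : ℕ) (x : ↥Q), ((φ^[n] x : ↥Q) : G) = g ^ n * x * (g ^ n)⁻¹ := by
    intro n
    induction n with
    | zero => intro x; simp
    | succ n ih =>
      intro x
      rw [Function.iterate_succ_apply', hφ, ih, pow_succ']
      group
  have hne : ∃ x, φ x ≠ x := by
    by_contra h
    push Not at h
    apply hnc
    rw [Subgroup.mem_centralizer_iff]
    intro x hx
    have h1 := congrArg Subtype.val (h ⟨x, hx⟩)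
    rw [hφ] at h1
    have h2 : g * x * g⁻¹ = x := h1
    calc x * g = (g * x * g⁻¹) * g := by rw [h2]
      _ = g * x := by group
  obtain ⟨D₀, hinv, hgen, hexp, hne⟩ := exists_minimal_invariant hQ φ (orderOf g) hcop
    (fun x => Subtype.ext (by rw [hφiter, pow_orderOf_eq_one]; simp)) hne
  refine ⟨D₀.map Q.subtype, ?_, ?_, ?_, ?_, ?_⟩
  · rintro _ ⟨x, _, rfl⟩
    exact x.2
  · rintro _ ⟨x, hx, rfl⟩
    exact ⟨φ x, hinv x hx, rfl⟩
  · have h1 := Subgroup.map_mono (f := Q.subtype) hgen
    rw [MonoidHom.map_closure] at h1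
    refine h1.trans (Subgroup.closure_mono ?_)
    rintro _ ⟨_, ⟨d, hd, rfl⟩, rfl⟩
    exact ⟨d, ⟨d, hd, rfl⟩, rfl⟩
  · rintro _ ⟨x, hx, rfl⟩
    rcases hexp x hx with h | ⟨h2, h4⟩
    · left
      have := congrArg Subtype.val h
      simpa using this
    · right
      have := congrArg Subtype.val h4
      exact ⟨h2, by simpa using this⟩
  · intro h
    apply hne
    exact (Subgroup.map_eq_bot_iff_of_injective _ Q.subtype_injective).mp h

end Cfsg.Agent.Lib.Helper41
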