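import Cfsg.Agent.Lib.Helper41.BG11Aux2
import Cfsg.Agent.S0058
import Cfsg.Agent.S1462

/-!
# B&G Section 11: piece T9B1 (helper41)
-/

set_option autoImplicit false

open Cfsg Cfsg.Agent.Lib.Helper32 Cfsg.Agent.Lib.Helper32.BG10 Cfsg.Agent.Lib.Helper3.BG12
open Cfsg.Agent.Lib.Helper41.BG11
open scoped commutatorElement

namespace Cfsg.Agent.Lib.Helper41.BG11

universe u

variable {G : Type u} [Group G] [Finite G]

theorem t9b1 (hG : IsMinSimpleOddOrder G) (hFpf : PFpf G) (hFit : PFit G) (hCyc : PCyc G)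
    (hBeta : PBeta G) : PSig1 G := by
  intro M p A A₀ hE q B B₀ B₁ hcfg
  obtain ⟨hM, hp, hpσ, hAM, hmax, hAc, hid, hA₀A, hA₀c, hNA₀⟩ := hE
  obtain ⟨hq, hqp, hqσ, hB₀M, hMB₀, hB₀c, hBM, hBe, hBc, hB₀B, hB₁B, hB₁c, hinf, hAB, hB₁A,
    hB₀A⟩ := hcfg
  haveI : Fact p.Prime := ⟨hp⟩
  haveI : Fact q.Prime := ⟨hq⟩
  have hpq : Nat.Coprime p q := (Nat.coprime_primes hp hq).mpr (Ne.symm hqp)
  have hAp : IsPGroup p A := isPGroup_of_elemAb hmax.1
  have hB₀ne : B₀ ≠ ⊥ := ne_bot_of_card_prime hq hB₀c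
  have hNB₀ : Subgroup.normalizer (B₀ : Set G) = M :=
    normalizer_eq_of_coatom hG hM hB₀ne hB₀M hMB₀
  have hBsup : B₀ ⊔ B₁ = B := sup_eq_of_card hq hBc hB₀B hB₁B hB₀c hB₁c hinf
  set A₂ : Subgroup G := A ⊓ Subgroup.centralizer (B₀ : Set G) with hA₂
  have hA₂A : A₂ ≠ A := by
    intro h
    apply hB₀A
    intro b hb
    rw [Subgroup.mem_centralizer_iff]
    intro a ha
    have h1 : a ∈ A₂ := h.symm ▸ ha
    exact ((Subgroup.mem_centralizer_iff.mp h1.2) b hb).symm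
  have hA₂ne : A₂ ≠ ⊥ := by
    intro h0
    haveI : IsMulCommutative ↥A := hmax.1.1
    have hncyc : ¬ IsCyclic ↥A := not_isCyclic_of_elemAb hmax.1.2 (by rw [hAc])
    have hAN : A ≤ Subgroup.normalizer (B₀ : Set G) := hAM.trans hMB₀
    have hcop : (Nat.card A).Coprime (Nat.card B₀) := by
      rw [hAc, hB₀c]; exact Nat.Coprime.pow_left 2 hpq
    have h58 := Cfsg.Agent.S0058.result A B₀ hncyc hAN hcop
    apply hB₀ne
    rw [← h58, eq_bot_iff]
    apply iSup₂_le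
    intro a ha b hb
    rw [Subgroup.mem_bot]
    by_contra hb1
    have hz := zpowers_eq_of_card_prime hq hB₀c hb.1 hb1
    have hab : a * b = b * a := (Subgroup.mem_centralizer_iff.mp hb.2) a rfl
    have haC : a ∈ Subgroup.centralizer (B₀ : Set G) := by
      rw [Subgroup.mem_centralizer_iff]
      intro y hy
      rw [← hz] at hy
      obtain ⟨k, rfl⟩ := hy
      have hc : Commute b a := hab.symm
      exact (hc.zpow_left k).eq
    have h1 : a ∈ A₂ := ⟨ha.1, haC⟩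
    rw [h0, Subgroup.mem_bot] at h1
    exact ha.2 h1
  have hA₂c : Nat.card A₂ = p := card_eq_prime_of_lt hp hAc inf_le_left hA₂ne hA₂A
  have hA₂C : A₂ ≤ Subgroup.centralizer (B : Set G) := cfg_inf_le hBsup hB₁A
  have hA₂M : A₂ ≤ M := inf_le_left.trans hAM
  have hA₂top : A₂ ≠ ⊤ := fun h => hM.1 (top_le_iff.mp (h ▸ hA₂M))
  have hNtop := minSimple_normalizer_ne_top hG hA₂ne hA₂top
  obtain ⟨H₂, hH₂, hNH₂⟩ := exists_coatom_ge hNtop
  suffices hHM : H₂ = M by exact hHM ▸ hNH₂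
  have hAH₂ : A ≤ H₂ := by
    refine le_trans ?_ hNH₂
    intro a ha
    apply mem_normalizer_of_conj_mem
    intro x hx
    have hcomm := hmax.1.1.is_comm.comm ⟨a, ha⟩ ⟨x, hx.1⟩
    have h2 : a * x = x * a := congrArg Subtype.val hcomm
    have h3 : a * x * a⁻¹ = x := by rw [h2]; group
    rw [h3]; exact hx
  have hBH₂ : B ≤ H₂ := by
    refine le_trans ?_ hNH₂
    intro b hb
    apply centralizer_le_normalizer' A₂
    rw [Subgroup.mem_centralizer_iff]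
    intro x hx
    exact ((Subgroup.mem_centralizer_iff.mp (hA₂C hx)) b hb).symm
  have hB₀H₂ : B₀ ≤ H₂ := hB₀B.trans hBH₂
  have hcomm : B₀ ≤ ⁅B₀, A⁆ := by
    have hle : ⁅B₀, A⁆ ≤ B₀ := by
      rw [Subgroup.commutator_le]
      intro b hb a ha
      have h1 : a * b⁻¹ * a⁻¹ ∈ B₀ :=
        conj_mem_of_mem_normalizer (hMB₀ (hAM ha)) (B₀.inv_mem hb)
      have h2 : ⁅b, a⁆ = b * (a * b⁻¹ * a⁻¹) := by rw [commutatorElement_def]; group
      rw [h2]; exact B₀.mul_mem hb h1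
    have hne : ⁅B₀, A⁆ ≠ ⊥ := by
      intro h
      apply hB₀A
      intro b hb
      rw [Subgroup.mem_centralizer_iff]
      intro a ha
      have h1 : ⁅b, a⁆ ∈ ⁅B₀, A⁆ := Subgroup.commutator_mem_commutator hb ha
      rw [h, Subgroup.mem_bot, commutatorElement_eq_one_iff_mul_comm] at h1
      exact h1.symm
    obtain ⟨x, hx, hx1⟩ : ∃ x ∈ ⁅B₀, A⁆, x ≠ 1 := by
      by_contra hcon
      push Not at hcon
      exact hne ((Subgroup.eq_bot_iff_forall _).mpr hcon)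
    have h3 := zpowers_eq_of_card_prime hq hB₀c (hle hx) hx1
    calc B₀ = Subgroup.zpowers x := h3.symm
      _ ≤ ⁅B₀, A⁆ := by rw [Subgroup.zpowers_le]; exact hx
  have hidq : ¬ IsIdealPrime q G := (h6_of hG M hM q hqσ B₀ hB₀c hNB₀.le).2.1
  by_cases hpσ₂ : p ∈ sigma H₂
  · exfalso
    have hAS : A ≤ sigmaCore H₂ :=
      Cfsg.Agent.Lib.Helper32.BG12.pgroup_le_sigmaCore hG hH₂ hpσ₂ hAp hAH₂
    have hSn : H₂ ≤ Subgroup.normalizer ((sigmaCore H₂ : Subgroup G) : Set G) :=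
      Cfsg.Agent.Lib.Helper29.le_normalizer_map_subtype (piCore (sigma H₂) ↥H₂)
    have hB₀S : B₀ ≤ sigmaCore H₂ := by
      refine hcomm.trans ?_
      rw [Subgroup.commutator_le]
      intro b hb a ha
      have h1 : b * a * b⁻¹ ∈ sigmaCore H₂ :=
        conj_mem_of_mem_normalizer (hSn (hB₀H₂ hb)) (hAS ha)
      have h2 : ⁅b, a⁆ = (b * a * b⁻¹) * a⁻¹ := by rw [commutatorElement_def]
      rw [h2]; exact (sigmaCore H₂).mul_mem h1 ((sigmaCore H₂).inv_mem (hAS ha))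
    have hWS : A ⊔ B₀ ≤ sigmaCore H₂ := sup_le hAS hB₀S
    have hWnil : Group.IsNilpotent ↥(A ⊔ B₀) := by
      apply hBeta H₂ (A ⊔ B₀) hH₂ hWS
      intro r hr hrW
      rcases prime_dvd_card_sup hAp (hAM.trans hMB₀) hr hrW with h | h
      · rw [h]; exact hid
      · rw [hB₀c] at h
        rw [(Nat.prime_dvd_prime_iff_eq hr hq).mp h]; exact hidq
    apply hB₀A
    intro b hb
    rw [Subgroup.mem_centralizer_iff]
    intro a ha
    have haW : a ∈ A ⊔ B₀ := (le_sup_left : A ≤ A ⊔ B₀) ha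
    have hbW : b ∈ A ⊔ B₀ := (le_sup_right : B₀ ≤ A ⊔ B₀) hb
    have hoa : orderOf (⟨a, haW⟩ : ↥(A ⊔ B₀)) ∣ p :=
      orderOf_dvd_of_pow_eq_one (Subtype.ext (by simpa using hmax.1.2 a ha))
    have hob : orderOf (⟨b, hbW⟩ : ↥(A ⊔ B₀)) ∣ q :=
      orderOf_dvd_of_pow_eq_one (Subtype.ext (by simpa using pow_eq_one_of_card hB₀c hb))
    have hcop : (orderOf (⟨a, haW⟩ : ↥(A ⊔ B₀))).Coprime (orderOf (⟨b, hbW⟩ : ↥(A ⊔ B₀))) :=
      Nat.Coprime.coprime_dvd_left hoa (Nat.Coprime.coprime_dvd_right hob hpq)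
    have h3 := Cfsg.Agent.Lib.Helper34.commute_of_coprime_orderOf (N := ↥(A ⊔ B₀))
      ⟨a, haW⟩ ⟨b, hbW⟩ hcop
    exact congrArg Subtype.val h3.eq
  · have hE₂ : Exc H₂ p A A₂ := exc_mk hG hH₂ hp hpσ₂ hAH₂ hmax.1 hAc inf_le_left hA₂c hNH₂
    have hB₀K₂ : B₀ ≤ pPrimeCoreOf p H₂ := by
      haveI : Group.IsSolvable ↥H₂ := minSimple_solvable hG hH₂.1
      have hp2 : p ≠ 2 := by
        intro h2
        have h1 : p ∣ Nat.card A := by rw [hAc]; exact Dvd.intro_left p (by ring)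
        have h3 : p ∣ Nat.card G := h1.trans (Subgroup.card_subgroup_dvd_card A)
        rw [h2] at h3
        exact (Nat.not_even_iff_odd.mpr hG.1) (even_iff_two_dvd.mpr h3)
      have hpl : PLengthLE p 1 ↥H₂ := h7_of hG p H₂ hH₂.1
      have hEL : A.subgroupOf H₂ ≤ Subgroup.normalizer ((B₀.subgroupOf H₂ : Subgroup ↥H₂) : Set ↥H₂) := by
        intro a ha
        have haN : (a : G) ∈ Subgroup.normalizer (B₀ : Set G) :=
          hMB₀ (hAM (Subgroup.mem_subgroupOf.mp ha))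
        rw [Subgroup.mem_normalizer_iff]
        intro h
        rw [Subgroup.mem_subgroupOf, Subgroup.mem_subgroupOf]
        exact (Subgroup.mem_normalizer_iff.mp haN) (h : G)
      have hLc : (Nat.card (B₀.subgroupOf H₂)).Coprime p := by
        rw [Nat.card_congr (Subgroup.subgroupOfEquivOfLe hB₀H₂).toEquiv, hB₀c]
        exact hpq.symm
      have h := Cfsg.Agent.S1462.result p hp2 hpl (A.subgroupOf H₂) (B₀.subgroupOf H₂)
        (elemAb_subgroupOf H₂ hmax.1) (maxEA_subgroupOf hmax hAH₂) hLc hEL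
      intro b hb
      exact ⟨⟨b, hB₀H₂ hb⟩, h (Subgroup.mem_subgroupOf.mpr hb), rfl⟩
    have hfit := hFit H₂ p A A₂ hE₂ (pPrimeCoreOf p H₂) (pPrimeCoreOf_le H₂)
      (le_normalizer_pPrimeCoreOf H₂) (pPrimeCoreOf_coprime H₂)
    have hB₀F : B₀ ≤ fittingOf H₂ :=
      hcomm.trans ((Subgroup.commutator_mono hB₀K₂ le_rfl).trans hfit)
    have hB₀Y₂ : B₀ ≤ pCoreOf q H₂ := by
      intro b hb
      have hbq : b ^ q = 1 := pow_eq_one_of_card hB₀c hb
      obtain ⟨k, hk⟩ : ∃ k, orderOf b = q ^ k := by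
        rcases (Nat.dvd_prime hq).mp (orderOf_dvd_of_pow_eq_one hbq) with h | h
        · exact ⟨0, by simpa using h⟩
        · exact ⟨1, by simpa using h⟩
      exact mem_pCoreOf_of_mem_fittingOf q (hB₀F hb) hk
    by_cases hqσ₂ : q ∈ sigma H₂
    · exfalso
      have hB₁q : IsPGroup q B₁ := IsPGroup.of_card (n := 1) (by rw [hB₁c, pow_one])
      have hB₁S : B₁ ≤ sigmaCore H₂ :=
        Cfsg.Agent.Lib.Helper32.BG12.pgroup_le_sigmaCore hG hH₂ hqσ₂ hB₁q (hB₁B.trans hBH₂)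
      obtain ⟨hfpf, -, -⟩ := hFpf H₂ p A A₂ hE₂
      have h1 : B₁ ≤ sigmaCore H₂ ⊓ Subgroup.centralizer (A : Set G) := le_inf hB₁S hB₁A
      rw [hfpf] at h1
      exact ne_bot_of_card_prime hq hB₁c (eq_bot_iff.mpr h1)
    · have hY₂cyc : IsCyclic ↥(pCoreOf q H₂) :=
        hCyc H₂ q hH₂ hq hqσ₂ (pCoreOf q H₂) (pCoreOf_le q H₂) (le_normalizer_pCoreOf q H₂)
          (isPGroup_pCoreOf q H₂)
      have hH₂N : H₂ ≤ Subgroup.normalizer (B₀ : Set G) := by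
        intro h hh
        apply mem_normalizer_of_conj_mem
        intro b hb
        have h1 : h * b * h⁻¹ ∈ pCoreOf q H₂ :=
          conj_mem_of_mem_normalizer (le_normalizer_pCoreOf q H₂ hh) (hB₀Y₂ hb)
        refine mem_of_pow_eq_one_of_cyclic hq hY₂cyc hB₀Y₂ hB₀c h1 ?_
        rw [conj_pow, pow_eq_one_of_card hB₀c hb]; group
      rw [hNB₀] at hH₂N
      exact coatom_eq_of_le hH₂ hM hH₂N

end Cfsg.Agent.Lib.Helper41.BG11
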