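import Cfsg.Agent.Lib.Helper41.BG11Aux
import Cfsg.Agent.Lib.Helper3.FC4

/-!
# B&G Section 11: more auxiliary lemmas (helper41)
-/

set_option autoImplicit false

open Cfsg Cfsg.Agent.Lib.Helper32 Cfsg.Agent.Lib.Helper32.BG10 Cfsg.Agent.Lib.Helper3.BG12

namespace Cfsg.Agent.Lib.Helper41.BG11

universe u

variable {G : Type u} [Group G]

theorem pow_eq_one_of_card [Finite G] {X : Subgroup G} {n : ℕ} (h : Nat.card X = n) {x : G}
    (hx : x ∈ X) : x ^ n = 1 := by
  have h1 : (⟨x, hx⟩ : ↥X) ^ Nat.card ↥X = 1 := pow_card_eq_one'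
  rw [h] at h1
  simpa using congrArg Subtype.val h1

/-- in a cyclic subgroup, the elements of order dividing `q` lie in any subgroup of order `q` -/
theorem mem_of_pow_eq_one_of_cyclic [Finite G] {q : ℕ} (hq : q.Prime) {Y B₀ : Subgroup G}
    (hY : IsCyclic ↥Y) (hB₀Y : B₀ ≤ Y) (hc : Nat.card B₀ = q) {x : G} (hx : x ∈ Y)
    (hxq : x ^ q = 1) : x ∈ B₀ := by
  letI : CommGroup ↥Y := IsCyclic.commGroup
  have h1 : Nat.card (powMonoidHom q : ↥Y →* ↥Y).ker = (Nat.card ↥Y).gcd q :=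
    IsCyclic.card_powMonoidHom_ker ↥Y q
  have h2 : B₀.subgroupOf Y ≤ (powMonoidHom q : ↥Y →* ↥Y).ker := by
    intro b hb
    rw [MonoidHom.mem_ker, powMonoidHom_apply]
    have hb' : (b : G) ∈ B₀ := hb
    exact Subtype.ext (pow_eq_one_of_card hc hb')
  have h3 : Nat.card (B₀.subgroupOf Y) = q := by
    rw [Nat.card_congr (Subgroup.subgroupOfEquivOfLe hB₀Y).toEquiv]; exact hc
  have h4 : B₀.subgroupOf Y = (powMonoidHom q : ↥Y →* ↥Y).ker :=
    Subgroup.eq_of_le_of_card_ge h2 (by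
      rw [h1, h3]; exact Nat.le_of_dvd hq.pos (Nat.gcd_dvd_right _ _))
  have h5 : (⟨x, hx⟩ : ↥Y) ∈ (powMonoidHom q : ↥Y →* ↥Y).ker := by
    rw [MonoidHom.mem_ker, powMonoidHom_apply]
    exact Subtype.ext hxq
  rw [← h4] at h5
  exact h5

theorem elemAb_subgroupOf {p : ℕ} {A : Subgroup G} (H : Subgroup G)
    (hA : IsElementaryAbelian p A) : IsElementaryAbelian p (A.subgroupOf H) := by
  refine ⟨⟨⟨fun x y => ?_⟩⟩, ?_⟩
  · have hx : (x.1 : G) ∈ A := x.2
    have hy : (y.1 : G) ∈ A := y.2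
    have h1 := hA.1.is_comm.comm ⟨_, hx⟩ ⟨_, hy⟩
    have h2 : (x.1 : G) * (y.1 : G) = (y.1 : G) * (x.1 : G) := congrArg Subtype.val h1
    apply Subtype.ext
    apply Subtype.ext
    simpa using h2
  · intro a ha
    have ha' : (a : G) ∈ A := ha
    exact Subtype.ext (by simpa using hA.2 (a : G) ha')

theorem elemAb_map_subtype {p : ℕ} {H : Subgroup G} {B : Subgroup ↥H}
    (hB : IsElementaryAbelian p B) : IsElementaryAbelian p (B.map H.subtype) := by
  refine ⟨⟨⟨fun x y => ?_⟩⟩, ?_⟩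
  · obtain ⟨x', hx', hxe⟩ := x.2
    obtain ⟨y', hy', hye⟩ := y.2
    have h1 := hB.1.is_comm.comm ⟨x', hx'⟩ ⟨y', hy'⟩
    have h2 : x' * y' = y' * x' := congrArg Subtype.val h1
    apply Subtype.ext
    show (x : G) * (y : G) = (y : G) * (x : G)
    rw [← hxe, ← hye, ← map_mul, ← map_mul, h2]
  · rintro a ⟨a', ha', rfl⟩
    have := hB.2 a' ha'
    rw [← map_pow, this, map_one]

/-- maximality of `A` transfers to the subgroup `H` -/
theorem maxEA_subgroupOf {p : ℕ} {A H : Subgroup G} (hmax : MaxEA p A) (hAH : A ≤ H) :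
    ∀ B : Subgroup ↥H, IsElementaryAbelian p B → A.subgroupOf H ≤ B → B = A.subgroupOf H := by
  intro B hB hle
  have h1 : A ≤ B.map H.subtype := by
    intro a ha
    exact ⟨⟨a, hAH ha⟩, hle (Subgroup.mem_subgroupOf.mpr ha), rfl⟩
  have h2 := hmax.2 _ (elemAb_map_subtype hB) h1
  rw [← h2]
  exact (Subgroup.comap_map_eq_self_of_injective H.subtype_injective B).symm

/-- the prime divisors of `|A B₀|`, `A` a `p`-group normalizing `B₀` -/
theorem prime_dvd_card_sup [Finite G] {p : ℕ} [Fact p.Prime] {A D : Subgroup G}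
    (hA : IsPGroup p A) (hAD : A ≤ Subgroup.normalizer (D : Set G)) {r : ℕ} (hr : r.Prime)
    (h : r ∣ Nat.card ↥(A ⊔ D)) : r = p ∨ r ∣ Nat.card D := by
  obtain ⟨k, hk⟩ := Cfsg.Agent.Lib.Helper3.FC.relIndex_sup_pow hA hAD
  have hcard : Nat.card ↥(A ⊔ D) = Nat.card D * p ^ k := by
    rw [← hk]
    exact Cfsg.Agent.Lib.Helper30.card_eq_card_mul_relIndex le_sup_right
  rw [hcard] at h
  rcases (Nat.Prime.dvd_mul hr).mp h with h | h
  · exact Or.inr h
  · exact Or.inl ((Nat.prime_dvd_prime_iff_eq hr Fact.out).mp (hr.dvd_of_dvd_pow h))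

/-- in the configuration, `C_A(B₀)` centralizes `B` -/
theorem cfg_inf_le {A B B₀ B₁ : Subgroup G} (hBsup : B₀ ⊔ B₁ = B)
    (hB₁A : B₁ ≤ Subgroup.centralizer (A : Set G)) :
    A ⊓ Subgroup.centralizer (B₀ : Set G) ≤ Subgroup.centralizer (B : Set G) := by
  intro x hx
  rw [Subgroup.mem_centralizer_iff]
  have hx0 : ∀ b ∈ B₀, b * x = x * b := Subgroup.mem_centralizer_iff.mp hx.2
  have hx1 : ∀ b ∈ B₁, b * x = x * b := fun b hb =>
    ((Subgroup.mem_centralizer_iff.mp (hB₁A hb)) x hx.1).symm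
  have hle : B₀ ⊔ B₁ ≤ Subgroup.centralizer ({x} : Set G) := by
    refine sup_le ?_ ?_
    · intro b hb
      rw [Subgroup.mem_centralizer_iff]
      intro y hy
      rw [Set.mem_singleton_iff] at hy
      subst hy
      exact (hx0 b hb).symm
    · intro b hb
      rw [Subgroup.mem_centralizer_iff]
      intro y hy
      rw [Set.mem_singleton_iff] at hy
      subst hy
      exact (hx1 b hb).symm
  intro b hb
  have := (Subgroup.mem_centralizer_iff.mp (hle (hBsup ▸ hb))) x rfl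
  exact this.symm

end Cfsg.Agent.Lib.Helper41.BG11
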