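import Cfsg.Agent.Lib.Helper58.CentrallyLarge2
import Cfsg.Agent.S3007

set_option autoImplicit false
open Pointwise

namespace Cfsg.Agent.Lib.Helper41.CL

open Cfsg.Agent.Lib.Helper58

variable {G : Type*} [Group G]

/-- The conjugate subgroup `g H g⁻¹`. -/
def cj (g : G) (H : Subgroup G) : Subgroup G := H.map (MulAut.conj g).toMonoidHom

theorem mem_cj {g x : G} {H : Subgroup G} : x ∈ cj g H ↔ g⁻¹ * x * g ∈ H := by
  unfold cj
  rw [Subgroup.mem_map]
  constructor
  · rintro ⟨h, hh, rfl⟩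
    simpa [MulAut.conj_apply, mul_assoc] using hh
  · intro h
    exact ⟨_, h, by simp [MulAut.conj_apply, mul_assoc]⟩

theorem card_cj (g : G) (H : Subgroup G) : Nat.card (cj g H) = Nat.card H :=
  Subgroup.card_map_of_injective (MulAut.conj g).injective

theorem cj_mono {g : G} {H K : Subgroup G} (h : H ≤ K) : cj g H ≤ cj g K := Subgroup.map_mono h

theorem cj_cj (g h : G) (H : Subgroup G) : cj g (cj h H) = cj (g * h) H := by
  ext x
  simp only [mem_cj]
  rw [mul_inv_rev]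
  simp only [mul_assoc]

theorem cj_one (H : Subgroup G) : cj 1 H = H := by
  ext x
  simp [mem_cj]

theorem cj_inv_cj (g : G) (H : Subgroup G) : cj g⁻¹ (cj g H) = H := by
  rw [cj_cj, inv_mul_cancel, cj_one]

theorem cj_cj_inv (g : G) (H : Subgroup G) : cj g (cj g⁻¹ H) = H := by
  rw [cj_cj, mul_inv_cancel, cj_one]

theorem cj_le_iff {g : G} {H K : Subgroup G} : cj g H ≤ K ↔ H ≤ cj g⁻¹ K := by
  constructor
  · intro h
    have := cj_mono (g := g⁻¹) h
    rwa [cj_inv_cj] at this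
  · intro h
    have := cj_mono (g := g) h
    rwa [cj_cj_inv] at this

theorem cj_centralizer (g : G) (H : Subgroup G) :
    Subgroup.centralizer ((cj g H : Subgroup G) : Set G) = cj g (Subgroup.centralizer (H : Set G)) := by
  ext x
  rw [mem_cj, Subgroup.mem_centralizer_iff, Subgroup.mem_centralizer_iff]
  constructor
  · intro h y hy
    have hy' : g * y * g⁻¹ ∈ cj g H := by
      rw [mem_cj]
      simpa [mul_assoc] using hy
    have := h _ hy'
    calc y * (g⁻¹ * x * g) = g⁻¹ * (g * y * g⁻¹ * x) * g := by group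
      _ = g⁻¹ * (x * (g * y * g⁻¹)) * g := by rw [this]
      _ = g⁻¹ * x * g * y := by group
  · intro h y hy
    rw [SetLike.mem_coe, mem_cj] at hy
    have := h _ hy
    calc y * x = g * ((g⁻¹ * y * g) * (g⁻¹ * x * g)) * g⁻¹ := by group
      _ = g * ((g⁻¹ * x * g) * (g⁻¹ * y * g)) * g⁻¹ := by rw [this]
      _ = x * y := by group

theorem cdm_cj (g : G) (H : Subgroup G) : cdm (cj g H) = cdm H := by
  unfold cdm
  rw [cj_centralizer, card_cj, card_cj]

theorem member_cj (g : G) {H : Subgroup G} (h : Cfsg.IsCentralizerLarge H) :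
    Cfsg.IsCentralizerLarge (cj g H) := by
  rw [isCentralizerLarge_iff] at h ⊢
  rw [cdm_cj]
  exact h

theorem cl_cj [Finite G] (g : G) {Q : Subgroup G} (h : Cfsg.IsCentrallyLarge Q) :
    Cfsg.IsCentrallyLarge (cj g Q) := by
  obtain ⟨h1, h2⟩ := centrallyLarge_imp Q h
  rw [centrallyLarge_iff_of_centralizerLarge _ (member_cj g h1), cj_centralizer]
  apply cj_mono
  rw [h2]
  exact inf_le_left

theorem mcl_cj [Finite G] (g : G) {Q : Subgroup G} (h : Cfsg.IsMinimalCentrallyLarge Q) :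
    Cfsg.IsMinimalCentrallyLarge (cj g Q) := by
  refine ⟨cl_cj g h.1, ?_⟩
  intro R' hR' hcl
  have h1 : cj g⁻¹ R' ≤ Q := cj_le_iff.mpr (by rwa [inv_inv])
  have h2 := h.2 _ h1 (cl_cj g⁻¹ hcl)
  rw [← h2, cj_cj_inv]

theorem member_sInf [Finite G] (𝒮 : Set (Subgroup G)) (hne : 𝒮.Nonempty)
    (h𝒮 : ∀ R ∈ 𝒮, Cfsg.IsCentralizerLarge R) : Cfsg.IsCentralizerLarge (sInf 𝒮) := by
  classical
  obtain ⟨R₀, hR₀⟩ := hne
  have : Nonempty {R : Subgroup G // Cfsg.IsCentralizerLarge R ∧ sInf 𝒮 ≤ R} :=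
    ⟨⟨R₀, h𝒮 R₀ hR₀, sInf_le hR₀⟩⟩
  obtain ⟨⟨R, hRcl, hRle⟩, hmin⟩ := Finite.exists_min
    (fun R : {R : Subgroup G // Cfsg.IsCentralizerLarge R ∧ sInf 𝒮 ≤ R} => Nat.card (R : Subgroup G))
  have hall : ∀ X ∈ 𝒮, R ≤ X := by
    intro X hX
    have hcl := (cd_main R X hRcl (h𝒮 X hX)).2.2.1
    have hle : sInf 𝒮 ≤ R ⊓ X := le_inf hRle (sInf_le hX)
    have hcard := hmin ⟨R ⊓ X, hcl, hle⟩
    simp only at hcard
    have : R ⊓ X = R := Subgroup.eq_of_le_of_card_ge inf_le_left hcard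
    rw [← this]
    exact inf_le_right
  have : sInf 𝒮 = R := le_antisymm hRle (le_sInf hall)
  rw [this]
  exact hRcl

theorem member_sSup [Finite G] (𝒮 : Set (Subgroup G)) (hne : 𝒮.Nonempty)
    (h𝒮 : ∀ R ∈ 𝒮, Cfsg.IsCentralizerLarge R) : Cfsg.IsCentralizerLarge (sSup 𝒮) := by
  classical
  obtain ⟨R₀, hR₀⟩ := hne
  have : Nonempty {R : Subgroup G // Cfsg.IsCentralizerLarge R ∧ R ≤ sSup 𝒮} :=
    ⟨⟨R₀, h𝒮 R₀ hR₀, le_sSup hR₀⟩⟩
  obtain ⟨⟨R, hRcl, hRle⟩, hmax⟩ := Finite.exists_max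
    (fun R : {R : Subgroup G // Cfsg.IsCentralizerLarge R ∧ R ≤ sSup 𝒮} => Nat.card (R : Subgroup G))
  have hall : ∀ X ∈ 𝒮, X ≤ R := by
    intro X hX
    have hcl := (cd_main R X hRcl (h𝒮 X hX)).2.1
    have hle : R ⊔ X ≤ sSup 𝒮 := sup_le hRle (le_sSup hX)
    have hcard := hmax ⟨R ⊔ X, hcl, hle⟩
    simp only at hcard
    have : R = R ⊔ X := Subgroup.eq_of_le_of_card_ge le_sup_left hcard
    rw [this]
    exact le_sup_right
  have : sSup 𝒮 = R := le_antisymm (sSup_le hall) hRle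
  rw [this]
  exact hRcl

theorem member_iInf [Finite G] {ι : Sort*} [Nonempty ι] (f : ι → Subgroup G)
    (h : ∀ i, Cfsg.IsCentralizerLarge (f i)) : Cfsg.IsCentralizerLarge (⨅ i, f i) := by
  show Cfsg.IsCentralizerLarge (sInf (Set.range f))
  apply member_sInf
  · exact Set.range_nonempty f
  · rintro R ⟨i, rfl⟩
    exact h i

theorem member_iSup [Finite G] {ι : Sort*} [Nonempty ι] (f : ι → Subgroup G)
    (h : ∀ i, Cfsg.IsCentralizerLarge (f i)) : Cfsg.IsCentralizerLarge (⨆ i, f i) := by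
  show Cfsg.IsCentralizerLarge (sSup (Set.range f))
  apply member_sSup
  · exact Set.range_nonempty f
  · rintro R ⟨i, rfl⟩
    exact h i

/-- The maximal abelian members of the Chermak–Delgado lattice: centralizers of minimal centrally
large subgroups. -/
def IsMA (A : Subgroup G) : Prop :=
  ∃ Q : Subgroup G, Cfsg.IsMinimalCentrallyLarge Q ∧ A = Subgroup.centralizer (Q : Set G)

theorem IsMA.member [Finite G] {A : Subgroup G} (hA : IsMA A) : Cfsg.IsCentralizerLarge A := by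
  obtain ⟨Q, hQ, rfl⟩ := hA
  exact (cd_centralizer Q (centrallyLarge_imp Q hQ.1).1).1

theorem IsMA.centralizer_mcl [Finite G] {A : Subgroup G} (hA : IsMA A) :
    Cfsg.IsMinimalCentrallyLarge (Subgroup.centralizer (A : Set G)) := by
  obtain ⟨Q, hQ, rfl⟩ := hA
  rw [← (cd_centralizer Q (centrallyLarge_imp Q hQ.1).1).2]
  exact hQ

theorem IsMA.abelian [Finite G] {A : Subgroup G} (hA : IsMA A) :
    A ≤ Subgroup.centralizer (A : Set G) := by
  have h := hA.centralizer_mcl.1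
  have h2 := (centrallyLarge_iff_of_centralizerLarge _ (centrallyLarge_imp _ h).1).mp h
  exact le_trans (Subgroup.le_centralizer_iff.mp le_rfl) h2

theorem isMA_cj [Finite G] {A : Subgroup G} (hA : IsMA A) (g : G) : IsMA (cj g A) := by
  obtain ⟨Q, hQ, rfl⟩ := hA
  exact ⟨cj g Q, mcl_cj g hQ, (cj_centralizer g Q).symm⟩

theorem cl_centralizer_of_abelian_member [Finite G] {A : Subgroup G}
    (hA : Cfsg.IsCentralizerLarge A) (hab : A ≤ Subgroup.centralizer (A : Set G)) :
    Cfsg.IsCentrallyLarge (Subgroup.centralizer (A : Set G)) := by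
  obtain ⟨h1, h2⟩ := cd_centralizer A hA
  rw [centrallyLarge_iff_of_centralizerLarge _ h1, ← h2]
  exact hab

theorem IsMA.card_eq {p : ℕ} [Fact p.Prime] [Finite G] (hP : IsPGroup p G) {A B : Subgroup G}
    (hA : IsMA A) (hB : IsMA B) : Nat.card A = Nat.card B := by
  obtain ⟨Q, hQ, rfl⟩ := hA
  obtain ⟨R, hR, rfl⟩ := hB
  have h := (Cfsg.Agent.S3007.result G hP Q R hQ hR).2.2.2.1
  rw [(centrallyLarge_imp Q hQ.1).2, (centrallyLarge_imp R hR.1).2]
  exact h

theorem isMA_of_card {p : ℕ} [Fact p.Prime] [Finite G] (hP : IsPGroup p G) {A A₂ : Subgroup G}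
    (hA : IsMA A) (hm : Cfsg.IsCentralizerLarge A₂)
    (hab : A₂ ≤ Subgroup.centralizer (A₂ : Set G)) (hc : Nat.card A ≤ Nat.card A₂) : IsMA A₂ := by
  have hcl := cl_centralizer_of_abelian_member hm hab
  obtain ⟨Q₃, hQ₃, hle⟩ := exists_isMinimalCentrallyLarge_le _ hcl
  refine ⟨Q₃, hQ₃, ?_⟩
  have h1 : A₂ ≤ Subgroup.centralizer (Q₃ : Set G) := Subgroup.le_centralizer_iff.mp hle
  have h3 : IsMA (Subgroup.centralizer (Q₃ : Set G)) := ⟨Q₃, hQ₃, rfl⟩
  exact Subgroup.eq_of_le_of_card_ge h1 (by rw [h3.card_eq hP hA]; exact hc)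

theorem IsMA.maxab [Finite G] {A M : Subgroup G} (hA : IsMA A) (hM : Cfsg.IsCentralizerLarge M)
    (hMab : M ≤ Subgroup.centralizer (M : Set G)) (hMA : M ≤ Subgroup.centralizer (A : Set G)) :
    M ≤ A := by
  have hAm := hA.member
  have hAab := hA.abelian
  have hsup := (cd_main A M hAm hM).2.1
  have hab : A ⊔ M ≤ Subgroup.centralizer ((A ⊔ M : Subgroup G) : Set G) :=
    abelian_sup A M hAab hMab hMA
  have hcl := cl_centralizer_of_abelian_member hsup hab
  have hle : Subgroup.centralizer ((A ⊔ M : Subgroup G) : Set G) ≤ Subgroup.centralizer (A : Set G) :=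
    Subgroup.centralizer_le (by exact_mod_cast (le_sup_left : A ≤ A ⊔ M))
  have heq := hA.centralizer_mcl.2 _ hle hcl
  have h1 := (cd_centralizer _ hsup).2
  have h2 := (cd_centralizer _ hAm).2
  rw [heq, ← h2] at h1
  rw [← h1]
  exact le_sup_right

theorem rho {p : ℕ} [Fact p.Prime] [Finite G] (hP : IsPGroup p G) {A C : Subgroup G}
    (hA : IsMA A) (hC : Cfsg.IsCentralizerLarge C) (hCab : C ≤ Subgroup.centralizer (C : Set G)) :
    IsMA (C ⊔ (A ⊓ Subgroup.centralizer (C : Set G))) := by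
  have hAm := hA.member
  have hAab := hA.abelian
  obtain ⟨hQC, hCQC⟩ := cd_centralizer C hC
  obtain ⟨hQA, hAQA⟩ := cd_centralizer A hAm
  obtain ⟨-, -, hD, hCCset, hCD⟩ := cd_main A _ hAm hQC
  rw [← hCQC] at hCCset hCD
  obtain ⟨hset, hsup, -, -, -⟩ := cd_main C _ hC hD
  have hDab : A ⊓ Subgroup.centralizer (C : Set G)
      ≤ Subgroup.centralizer ((A ⊓ Subgroup.centralizer (C : Set G) : Subgroup G) : Set G) :=
    le_trans inf_le_left (le_trans hAab
      (Subgroup.centralizer_le (by exact_mod_cast (inf_le_left : A ⊓ Subgroup.centralizer (C : Set G) ≤ A))))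
  have hab := abelian_sup C _ hCab hDab inf_le_right
  apply isMA_of_card hP hA hsup hab
  -- the counting
  have e3 := card_mul_set C (A ⊓ Subgroup.centralizer (C : Set G))
  rw [← hset] at e3
  have hCD' : C ⊓ (A ⊓ Subgroup.centralizer (C : Set G)) = A ⊓ C := by
    apply le_antisymm
    · exact le_inf (le_trans inf_le_right inf_le_left) inf_le_left
    · exact le_inf inf_le_right (le_inf inf_le_left (le_trans inf_le_right hCab))
  rw [hCD'] at e3
  have e2 := card_mul_set (Subgroup.centralizer (A : Set G)) C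
  rw [← hCCset] at e2
  have hQAC : Subgroup.centralizer (A : Set G) ⊓ C = A ⊓ C := by
    apply le_antisymm
    · refine le_inf ?_ inf_le_right
      have hm := (cd_main _ C hQA hC).2.2.1
      have hmab : Subgroup.centralizer (A : Set G) ⊓ C
          ≤ Subgroup.centralizer ((Subgroup.centralizer (A : Set G) ⊓ C : Subgroup G) : Set G) :=
        le_trans inf_le_right (le_trans hCab
          (Subgroup.centralizer_le (by exact_mod_cast (inf_le_right : Subgroup.centralizer (A : Set G) ⊓ C ≤ C))))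
      exact hA.maxab hm hmab inf_le_left
    · exact le_inf (le_trans inf_le_left hAab) inf_le_right
  rw [hQAC] at e2
  have e1 : Nat.card ↥(A ⊓ Subgroup.centralizer (C : Set G))
      * Nat.card ↥(Subgroup.centralizer (A : Set G) ⊔ C)
      = Nat.card A * Nat.card ↥(Subgroup.centralizer (A : Set G)) := by
    have h1 := (isCentralizerLarge_iff _).mp hD
    have h2 := (isCentralizerLarge_iff _).mp hAm
    unfold cdm at h1 h2
    rw [hCD] at h1
    rw [h1, h2]
  have e2' : Nat.card ↥(Subgroup.centralizer (A : Set G) ⊔ C) * Nat.card ↥(A ⊓ C)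
      = Nat.card ↥(Subgroup.centralizer (A : Set G)) * Nat.card C := by
    rw [← e2]
    rfl
  have e3' : Nat.card ↥(C ⊔ (A ⊓ Subgroup.centralizer (C : Set G))) * Nat.card ↥(A ⊓ C)
      = Nat.card C * Nat.card ↥(A ⊓ Subgroup.centralizer (C : Set G)) := by
    rw [← e3]
    rfl
  have hpos : 0 < Nat.card ↥(A ⊓ C) * Nat.card ↥(Subgroup.centralizer (A : Set G) ⊔ C) :=
    Nat.mul_pos Nat.card_pos Nat.card_pos
  have key : Nat.card ↥(C ⊔ (A ⊓ Subgroup.centralizer (C : Set G)))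
      * (Nat.card ↥(A ⊓ C) * Nat.card ↥(Subgroup.centralizer (A : Set G) ⊔ C))
      = Nat.card A * (Nat.card ↥(A ⊓ C) * Nat.card ↥(Subgroup.centralizer (A : Set G) ⊔ C)) := by
    calc Nat.card ↥(C ⊔ (A ⊓ Subgroup.centralizer (C : Set G)))
          * (Nat.card ↥(A ⊓ C) * Nat.card ↥(Subgroup.centralizer (A : Set G) ⊔ C))
        = (Nat.card ↥(C ⊔ (A ⊓ Subgroup.centralizer (C : Set G))) * Nat.card ↥(A ⊓ C))
          * Nat.card ↥(Subgroup.centralizer (A : Set G) ⊔ C) := by ring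
      _ = Nat.card C * (Nat.card ↥(A ⊓ Subgroup.centralizer (C : Set G))
          * Nat.card ↥(Subgroup.centralizer (A : Set G) ⊔ C)) := by rw [e3']; ring
      _ = Nat.card A * (Nat.card ↥(Subgroup.centralizer (A : Set G)) * Nat.card C) := by rw [e1]; ring
      _ = Nat.card A * (Nat.card ↥(A ⊓ C) * Nat.card ↥(Subgroup.centralizer (A : Set G) ⊔ C)) := by
          rw [← e2']; ring
  exact (Nat.eq_of_mul_eq_mul_right hpos key).ge

end Cfsg.Agent.Lib.Helper41.CL
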