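import Mathlib

set_option autoImplicit false

namespace Cfsg.Agent.Lib.Helper41

variable {G : Type*} [Group G]

/-- Refined dihedral lemma: two involutions `a`, `b` are either conjugate inside `⟨a, b⟩`, or
there is an involution `w ∈ ⟨a, b⟩` commuting with both such that `a w`, `b w` are conjugate to
`a`, `b` (in some order). -/
theorem dihedral_refined [Finite G] {a b : G} (ha : a * a = 1) (hb : b * b = 1) :
    (∃ g ∈ Subgroup.closure ({a, b} : Set G), g * a * g⁻¹ = b) ∨
      (∃ w, orderOf w = 2 ∧ w ∈ Subgroup.closure ({a, b} : Set G) ∧ w * a = a * w ∧ w * b = b * w ∧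
        ((IsConj a (a * w) ∧ IsConj b (b * w)) ∨ (IsConj b (a * w) ∧ IsConj a (b * w)))) := by
  have hai : a⁻¹ = a := inv_eq_of_mul_eq_one_left ha
  have hbi : b⁻¹ = b := inv_eq_of_mul_eq_one_left hb
  have haC : a ∈ Subgroup.closure ({a, b} : Set G) := Subgroup.subset_closure (by simp)
  have hbC : b ∈ Subgroup.closure ({a, b} : Set G) := Subgroup.subset_closure (by simp)
  have hxC : a * b ∈ Subgroup.closure ({a, b} : Set G) := mul_mem haC hbC
  have h1 : a * (a * b) * a⁻¹ = (a * b)⁻¹ := by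
    rw [mul_inv_rev, hai, hbi, ← mul_assoc, ha, one_mul]
  have h2 : b * (a * b) * b⁻¹ = (a * b)⁻¹ := by
    rw [mul_inv_rev, hai, hbi, mul_assoc, mul_assoc, hb, mul_one]
  -- key commutation facts
  have hA : ∀ i : ℕ, a * (a * b) ^ i = ((a * b) ^ i)⁻¹ * a := by
    intro i
    have : a * (a * b) ^ i * a⁻¹ = ((a * b) ^ i)⁻¹ := by rw [← conj_pow, h1, inv_pow]
    calc a * (a * b) ^ i = a * (a * b) ^ i * a⁻¹ * a := by group
      _ = ((a * b) ^ i)⁻¹ * a := by rw [this]
  have hB : ∀ i : ℕ, b * (a * b) ^ i = ((a * b) ^ i)⁻¹ * b := by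
    intro i
    have : b * (a * b) ^ i * b⁻¹ = ((a * b) ^ i)⁻¹ := by rw [← conj_pow, h2, inv_pow]
    calc b * (a * b) ^ i = b * (a * b) ^ i * b⁻¹ * b := by group
      _ = ((a * b) ^ i)⁻¹ * b := by rw [this]
  -- conjugation formulas
  have hA2 : ∀ i : ℕ, ((a * b) ^ i)⁻¹ * a * (((a * b) ^ i)⁻¹)⁻¹ = a * (a * b) ^ (i + i) := by
    intro i
    rw [inv_inv, ← hA i, pow_add, mul_assoc]
  have hB2 : ∀ i : ℕ, ((a * b) ^ i)⁻¹ * b * (((a * b) ^ i)⁻¹)⁻¹ = b * (a * b) ^ (i + i) := by
    intro i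
    rw [inv_inv, ← hB i, pow_add, mul_assoc]
  have hpos : 0 < orderOf (a * b) := orderOf_pos (a * b)
  rcases Nat.even_or_odd' (orderOf (a * b)) with ⟨k, hk | hk⟩
  · right
    have hk0 : k ≠ 0 := by rintro rfl; omega
    have hz : (a * b) ^ k * (a * b) ^ k = 1 := by
      rw [← pow_add, ← two_mul, ← hk, pow_orderOf_eq_one]
    have hzi : ((a * b) ^ k)⁻¹ = (a * b) ^ k := inv_eq_of_mul_eq_one_left hz
    have hwa : (a * b) ^ k * a = a * (a * b) ^ k := by
      rw [hA k, hzi]
    have hwb : (a * b) ^ k * b = b * (a * b) ^ k := by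
      rw [hB k, hzi]
    refine ⟨(a * b) ^ k, ?_, pow_mem hxC k, hwa, hwb, ?_⟩
    · rw [orderOf_pow_of_dvd hk0 ⟨2, by rw [hk]; ring⟩, hk]
      exact Nat.mul_div_left 2 (Nat.pos_of_ne_zero hk0)
    · rcases Nat.even_or_odd' k with ⟨j, hj | hj⟩
      · left
        have hjj : k = j + j := by omega
        constructor
        · rw [isConj_iff]
          exact ⟨((a * b) ^ j)⁻¹, by rw [hA2 j, hjj]⟩
        · rw [isConj_iff]
          exact ⟨((a * b) ^ j)⁻¹, by rw [hB2 j, hjj]⟩
      · right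
        have hjj : k = (j + j) + 1 := by omega
        constructor
        · -- a * x^k = b * x^(2j)
          rw [isConj_iff]
          refine ⟨((a * b) ^ j)⁻¹, ?_⟩
          rw [hB2 j, hjj, pow_succ']
          rw [← mul_assoc a, ← mul_assoc a, ha, one_mul]
        · -- b * x^k = x^k * b = x^(2j) * a
          rw [isConj_iff]
          refine ⟨(a * b) ^ j, ?_⟩
          rw [← hwb, hjj, pow_succ, mul_assoc ((a * b) ^ (j + j)), mul_assoc a, hb, mul_one]
          have : a * ((a * b) ^ j)⁻¹ = (a * b) ^ j * a := by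
            have hX := hA j
            generalize (a * b) ^ j = X at hX ⊢
            calc a * X⁻¹ = X * (X⁻¹ * a) * X⁻¹ := by group
              _ = X * (a * X) * X⁻¹ := by rw [hX]
              _ = X * a := by group
          rw [mul_assoc, this, ← mul_assoc, ← pow_add]
  · left
    refine ⟨((a * b) ^ (k + 1))⁻¹, inv_mem (pow_mem hxC _), ?_⟩
    rw [hA2 (k + 1)]
    have : (a * b) ^ (k + 1 + (k + 1)) = a * b := by
      have : k + 1 + (k + 1) = orderOf (a * b) + 1 := by omega
      rw [this, pow_succ, pow_orderOf_eq_one, one_mul]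
    rw [this, ← mul_assoc, ha, one_mul]

end Cfsg.Agent.Lib.Helper41
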