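import Mathlib
import Cfsg.Agent.Lib.Helper41.Cores

set_option autoImplicit false

namespace Cfsg.Agent.Lib.Helper41

variable {G : Type*} [Group G]

/-- Membership in a conjugate subgroup. -/
theorem mem_map_conj_iff (Q : Subgroup G) (g x : G) :
    x ∈ Q.map (MulAut.conj g).toMonoidHom ↔ g⁻¹ * x * g ∈ Q := by
  rw [Subgroup.mem_map_equiv, MulAut.conj_symm_apply]

theorem card_mul_le_card_sup_of_inf_eq_bot [Finite G] (A B : Subgroup G) (h : A ⊓ B = ⊥) :
    Nat.card A * Nat.card B ≤ Nat.card (A ⊔ B : Subgroup G) := by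
  rw [← card_mul_relIndex_of_le (le_sup_left : A ≤ A ⊔ B)]
  apply Nat.mul_le_mul_left
  have h1 : A.relIndex B = Nat.card B := by
    rw [← Subgroup.inf_relIndex_right, h, Subgroup.relIndex_bot_left]
  rw [← h1]
  exact Subgroup.relIndex_le_of_le_right le_sup_right
    (Subgroup.index_ne_zero_of_finite : (A.subgroupOf (A ⊔ B)).index ≠ 0)

/-- Product decomposition in `N ⊔ H` when `H` normalizes `N`. -/
theorem exists_mul_of_mem_sup_right (N H : Subgroup G) (hLE : H ≤ Subgroup.normalizer (N : Set G))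
    {x : G} (hx : x ∈ N ⊔ H) : ∃ n ∈ N, ∃ h ∈ H, x = n * h := by
  have h1 := Subgroup.coe_mul_of_right_le_normalizer_left N H hLE
  have hx' : x ∈ ((N ⊔ H : Subgroup G) : Set G) := hx
  rw [h1] at hx'
  obtain ⟨n, hn, h, hh, rfl⟩ := Set.mem_mul.mp hx'
  exact ⟨n, hn, h, hh, rfl⟩

/-- Product decomposition in `H ⊔ N` when `H` normalizes `N`. -/
theorem exists_mul_of_mem_sup_left (H N : Subgroup G) (hLE : H ≤ Subgroup.normalizer (N : Set G))
    {x : G} (hx : x ∈ H ⊔ N) : ∃ h ∈ H, ∃ n ∈ N, x = h * n := by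
  have h1 := Subgroup.coe_mul_of_left_le_normalizer_right H N hLE
  have hx' : x ∈ ((H ⊔ N : Subgroup G) : Set G) := hx
  rw [h1] at hx'
  obtain ⟨h, hh, n, hn, rfl⟩ := Set.mem_mul.mp hx'
  exact ⟨h, hh, n, hn, rfl⟩

theorem card_sup_le_of_le_normalizer [Finite G] (N H : Subgroup G)
    (hLE : H ≤ Subgroup.normalizer (N : Set G)) :
    Nat.card (N ⊔ H : Subgroup G) ≤ Nat.card N * Nat.card H := by
  have hsurj : Function.Surjective (fun z : N × H =>
      (⟨(z.1 : G) * z.2, Subgroup.mul_mem _ (Subgroup.mem_sup_left z.1.2)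
        (Subgroup.mem_sup_right z.2.2)⟩ : ↥(N ⊔ H))) := by
    rintro ⟨x, hx⟩
    obtain ⟨n, hn, h, hh, rfl⟩ := exists_mul_of_mem_sup_right N H hLE hx
    exact ⟨(⟨n, hn⟩, ⟨h, hh⟩), rfl⟩
  have := Nat.card_le_card_of_surjective _ hsurj
  rwa [Nat.card_prod] at this

/-- `|V ⊔ A : V| = |A : V ⊓ A|` when `V` normalizes `A`. -/
theorem relIndex_sup_of_le_normalizer [Finite G] (V A : Subgroup G)
    (h : V ≤ Subgroup.normalizer (A : Set G)) : V.relIndex (V ⊔ A) = V.relIndex A := by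
  have hA : A ≤ Subgroup.normalizer (A : Set G) := Subgroup.le_normalizer
  have h1 := relIndex_sup_of_normal (V.subgroupOf (Subgroup.normalizer (A : Set G)))
    (A.subgroupOf (Subgroup.normalizer (A : Set G)))
  rw [← Subgroup.subgroupOf_sup h hA, Subgroup.relIndex_subgroupOf (sup_le h hA),
    Subgroup.relIndex_subgroupOf hA] at h1
  exact h1

/-- A Sylow `p`-subgroup `V` of `A ⊔ B` (with `B` normalizing `A`) meets `A` in a Sylow
`p`-subgroup of `A`. -/
theorem sylow_inf_of_le_normalizer [Finite G] {p : ℕ} (A B V : Subgroup G)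
    (hB : B ≤ Subgroup.normalizer (A : Set G)) (hV : V ≤ A ⊔ B)
    (hVs : ¬ p ∣ V.relIndex (A ⊔ B)) : ¬ p ∣ (V ⊓ A).relIndex A := by
  have hVN : V ≤ Subgroup.normalizer (A : Set G) := hV.trans (sup_le Subgroup.le_normalizer hB)
  rw [Subgroup.inf_relIndex_right, ← relIndex_sup_of_le_normalizer V A hVN]
  intro h
  apply hVs
  rw [← Subgroup.relIndex_mul_relIndex V (V ⊔ A) (A ⊔ B) le_sup_left (sup_le hV le_sup_left)]
  exact Dvd.dvd.mul_right h _

/-- A `p`-subgroup `U` of `X` containing a Sylow `p`-subgroup `T` of `X` equals `T`. -/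
theorem le_of_sylow_le [Finite G] {p : ℕ} [Fact p.Prime] (T U X : Subgroup G) (hTU : T ≤ U)
    (hUX : U ≤ X) (hU : IsPGroup p U) (hT : ¬ p ∣ T.relIndex X) : U ≤ T := by
  have h1 := Subgroup.relIndex_mul_relIndex T U X hTU hUX
  have h2 : ¬ p ∣ T.relIndex U := fun h => hT (by rw [← h1]; exact Dvd.dvd.mul_right h _)
  obtain ⟨k, hk⟩ := IsPGroup.iff_card.mp hU
  have h3 : T.relIndex U ∣ p ^ k := by rw [← hk]; exact Subgroup.relIndex_dvd_card T U
  obtain ⟨j, -, hj⟩ := (Nat.dvd_prime_pow Fact.out).mp h3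
  rcases j with _ | j
  · rw [pow_zero] at hj; exact Subgroup.relIndex_eq_one.mp hj
  · exfalso; apply h2; rw [hj, pow_succ]; exact dvd_mul_left p _

/-- Normalizers grow in `p`-groups. -/
theorem exists_normalizer_not_mem [Finite G] {p : ℕ} [Fact p.Prime] (U P : Subgroup G)
    (hU : IsPGroup p U) (hne : ∃ v ∈ U, v ∉ P) (hPU : P ≤ U) :
    ∃ u ∈ U, u ∉ P ∧ u ∈ Subgroup.normalizer (P : Set G) := by
  have : Group.IsNilpotent ↥U := hU.isNilpotent
  have hlt : P.subgroupOf U < ⊤ := by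
    rw [lt_top_iff_ne_top]
    intro h
    obtain ⟨v, hvU, hvP⟩ := hne
    have : (⟨v, hvU⟩ : U) ∈ P.subgroupOf U := by rw [h]; trivial
    exact hvP (Subgroup.mem_subgroupOf.mp this)
  have h1 := normalizerCondition_of_isNilpotent (G := ↥U) (P.subgroupOf U) hlt
  obtain ⟨u, hu, hu'⟩ := SetLike.exists_of_lt h1
  refine ⟨u, u.2, fun h => hu' (Subgroup.mem_subgroupOf.mpr h), ?_⟩
  apply Subgroup.mem_normalizer_fintype
  intro n hn
  have := (Subgroup.mem_normalizer_iff.mp hu ⟨n, hPU hn⟩).mp (Subgroup.mem_subgroupOf.mpr hn)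
  exact Subgroup.mem_subgroupOf.mp this

/-- A `p`-subgroup `P` of `W` lies in a Sylow `p`-subgroup of `W`. -/
theorem exists_sylow_ge [Finite G] {p : ℕ} [Fact p.Prime] (W P : Subgroup G) (hP : IsPGroup p P)
    (hPW : P ≤ W) : ∃ U : Subgroup G, P ≤ U ∧ U ≤ W ∧ IsPGroup p U ∧ ¬ p ∣ U.relIndex W := by
  have hP' : IsPGroup p (P.subgroupOf W) := hP.comap_subtype
  obtain ⟨Q, hQ⟩ := hP'.exists_le_sylow
  refine ⟨(Q : Subgroup W).map W.subtype, ?_, ?_, ?_, ?_⟩
  · intro x hx; exact ⟨⟨x, hPW hx⟩, hQ (Subgroup.mem_subgroupOf.mpr hx), rfl⟩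
  · rintro _ ⟨x, _, rfl⟩; exact x.2
  · exact Q.isPGroup'.map W.subtype
  · have : ((Q : Subgroup W).map W.subtype).relIndex W = (Q : Subgroup W).index := by
      show (((Q : Subgroup W).map W.subtype).subgroupOf W).index = _
      rw [← Subgroup.comap_subtype, Subgroup.comap_map_eq_self_of_injective W.subtype_injective]
    rw [this]; exact Q.not_dvd_index

/-- The projection of an internal direct product `T × R` onto `T`. -/
theorem exists_proj (T R : Subgroup G) (hTR : T ⊓ R = ⊥)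
    (hcomm : ∀ t ∈ T, ∀ r ∈ R, t * r = r * t) :
    ∃ π : ↥(T ⊔ R) →* ↥T, ∀ z : ↥(T ⊔ R), ((π z : ↥T) : G)⁻¹ * (z : G) ∈ R := by
  have hRN : R ≤ Subgroup.normalizer (T : Set G) := by
    intro r hr
    rw [Subgroup.mem_normalizer_iff]
    intro t
    constructor
    · intro ht
      have : r * t * r⁻¹ = t := by rw [← hcomm t ht r hr]; group
      rw [this]; exact ht
    · intro ht
      have h := hcomm _ ht r hr
      have h' : r * t = r * (r * t * r⁻¹) := by rw [← h]; group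
      have : t = r * t * r⁻¹ := mul_left_cancel h'
      rw [this]; exact ht
  have hdec : ∀ z : ↥(T ⊔ R), ∃ t : ↥T, (t : G)⁻¹ * (z : G) ∈ R := by
    intro z
    obtain ⟨t, ht, r, hr, hz⟩ := exists_mul_of_mem_sup_right T R hRN z.2
    exact ⟨⟨t, ht⟩, by rw [hz]; simpa using hr⟩
  choose π hπ using hdec
  have huniq : ∀ (z : ↥(T ⊔ R)) (t : ↥T), (t : G)⁻¹ * (z : G) ∈ R → t = π z := by
    intro z t ht
    have h1 : (t : G)⁻¹ * (π z : G) ∈ T ⊓ R := by
      refine Subgroup.mem_inf.mpr ⟨T.mul_mem (T.inv_mem t.2) (π z).2, ?_⟩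
      have := R.mul_mem ht (R.inv_mem (hπ z))
      have e : (t : G)⁻¹ * (z : G) * ((π z : G)⁻¹ * (z : G))⁻¹ = (t : G)⁻¹ * (π z : G) := by group
      rwa [e] at this
    rw [hTR, Subgroup.mem_bot] at h1
    exact Subtype.ext (inv_mul_eq_one.mp h1)
  refine ⟨MonoidHom.mk' π ?_, hπ⟩
  intro z₁ z₂
  symm
  apply huniq
  have h1 := hπ z₁
  have h2 := hπ z₂
  have hc := hcomm (π z₂ : G)⁻¹ (T.inv_mem (π z₂).2) _ h1
  have e : ((π z₁ * π z₂ : ↥T) : G)⁻¹ * ((z₁ * z₂ : ↥(T ⊔ R)) : G)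
      = ((π z₁ : G)⁻¹ * (z₁ : G)) * ((π z₂ : G)⁻¹ * (z₂ : G)) := by
    calc ((π z₁ * π z₂ : ↥T) : G)⁻¹ * ((z₁ * z₂ : ↥(T ⊔ R)) : G)
        = ((π z₂ : G)⁻¹ * ((π z₁ : G)⁻¹ * (z₁ : G))) * (z₂ : G) := by
          simp only [Subgroup.coe_mul, mul_inv_rev, mul_assoc]
      _ = (((π z₁ : G)⁻¹ * (z₁ : G)) * (π z₂ : G)⁻¹) * (z₂ : G) := by rw [hc]
      _ = _ := by simp only [mul_assoc]
  rw [e]; exact R.mul_mem h1 h2

end Cfsg.Agent.Lib.Helper41
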