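import Mathlib
import Cfsg.Agent.Lib.Helper41.PSub
import Cfsg.Agent.Lib.Helper41.Dih
import Cfsg.Agent.Lib.Helper23.Count

set_option autoImplicit false

namespace Cfsg.Agent.Lib.Helper41

universe u

/-- If the class of the involution `z` has even size, there is a conjugate `t ≠ z` of `z`
commuting with `z` and a `2`-subgroup `T₁` centralizing `z * t` which centralizes no conjugate
of `z`. -/
theorem exists_big_two_subgroup {G : Type*} [Group G] [Finite G] (z : G) (hz : orderOf z = 2)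
    (hidx : 2 ∣ (Subgroup.centralizer ({z} : Set G)).index) :
    ∃ (T₁ : Subgroup G) (t : G), IsConj z t ∧ t ≠ z ∧ t * z = z * t ∧
      (∀ s ∈ T₁, s * (z * t) = (z * t) * s) ∧
      (∀ v, IsConj z v → ¬ (∀ s ∈ T₁, s * v = v * s)) := by
  have : Fact (Nat.Prime 2) := ⟨Nat.prime_two⟩
  set C := Subgroup.centralizer ({z} : Set G) with hC
  have hmemC : ∀ x, x ∈ C ↔ x * z = z * x := by
    intro x; rw [hC, Subgroup.mem_centralizer_iff]; simp [eq_comm]
  have hzz : z * z = 1 := by rw [← pow_two, ← hz, pow_orderOf_eq_one]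
  have hzC : z ∈ C := (hmemC z).2 rfl
  have hZ2 : IsPGroup 2 (Subgroup.zpowers z) := by
    apply IsPGroup.of_card (n := 1)
    rw [Nat.card_zpowers, hz, pow_one]
  obtain ⟨T', hzT', hT'C, hT'2, hT'idx⟩ := exists_sylow_ge C (Subgroup.zpowers z) hZ2
    (by rw [Subgroup.zpowers_le]; exact hzC)
  obtain ⟨S, hT'S, -, hS2, hSidx⟩ := exists_sylow_ge ⊤ T' hT'2 le_top
  have hzT : z ∈ T' := hzT' (Subgroup.mem_zpowers z)
  have hne : ∃ v ∈ S, v ∉ T' := by
    by_contra hcon
    push Not at hcon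
    have hSC : S ≤ C := fun v hv => hT'C (hcon v hv)
    apply hSidx
    rw [Subgroup.relIndex_top_right]
    exact hidx.trans (Subgroup.index_dvd_of_le hSC)
  obtain ⟨y₀, hy₀S, hy₀T, hy₀N⟩ := exists_normalizer_not_mem S T' hS2 hne hT'S
  have hex : ∃ j : ℕ, y₀ ^ (2 ^ j) ∈ T' := by
    obtain ⟨k, hk⟩ := hS2 ⟨y₀, hy₀S⟩
    refine ⟨k, ?_⟩
    have : y₀ ^ 2 ^ k = 1 := by simpa using congrArg Subtype.val hk
    rw [this]; exact one_mem _
  classical
  have hj : y₀ ^ (2 ^ Nat.find hex) ∈ T' := Nat.find_spec hex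
  have hj0 : Nat.find hex ≠ 0 := by
    intro h
    rw [h, pow_zero, pow_one] at hj
    exact hy₀T hj
  obtain ⟨i, hi⟩ := Nat.exists_eq_succ_of_ne_zero hj0
  set y := y₀ ^ (2 ^ i) with hy
  have hyT : y ∉ T' := fun h => Nat.find_min hex (m := i) (by omega) h
  have hy2 : y * y ∈ T' := by
    have : y * y = y₀ ^ (2 ^ Nat.find hex) := by rw [hy, ← pow_add, hi, pow_succ, mul_two]
    rw [this]; exact hj
  have hyS : y ∈ S := pow_mem hy₀S _
  have hyN : y ∈ Subgroup.normalizer (T' : Set G) := pow_mem hy₀N _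
  have hyN' : ∀ s, s ∈ T' → y⁻¹ * s * y ∈ T' := by
    intro s hs
    have := (Subgroup.mem_normalizer_iff.1 (inv_mem hyN) s).1 hs
    simpa using this
  set t := y * z * y⁻¹ with ht
  have htT : t ∈ T' := (Subgroup.mem_normalizer_iff.1 hyN z).1 hzT
  have htz : t * z = z * t := (hmemC t).1 (hT'C htT)
  have hyy : (y * y) * z = z * (y * y) := (hmemC _).1 (hT'C hy2)
  have hyz : y * z = t * y := by rw [ht]; group
  have hyt : y * t = z * y := by
    rw [ht]
    calc y * (y * z * y⁻¹) = (y * y) * z * y⁻¹ := by group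
      _ = z * (y * y) * y⁻¹ := by rw [hyy]
      _ = z * y := by group
  set T₁ := T' ⊔ Subgroup.zpowers y with hT₁
  have hT₁S : T₁ ≤ S := sup_le hT'S (by rw [Subgroup.zpowers_le]; exact hyS)
  have hT₁2 : IsPGroup 2 T₁ := hS2.to_le hT₁S
  have hyT₁ : y ∈ T₁ := (le_sup_right : Subgroup.zpowers y ≤ T₁) (Subgroup.mem_zpowers y)
  refine ⟨T₁, t, isConj_iff.2 ⟨y, rfl⟩, ?_, htz, ?_, ?_⟩
  · intro htz'
    have hyC : y ∈ C := by
      rw [hmemC]
      rw [hyz, htz']
    have hT₁C : T₁ ≤ C := sup_le hT'C (by rw [Subgroup.zpowers_le]; exact hyC)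
    exact hyT (le_of_sylow_le T' T₁ C le_sup_left hT₁C hT₁2 hT'idx hyT₁)
  · have hle : T₁ ≤ Subgroup.centralizer ({z * t} : Set G) := by
      apply sup_le
      · intro s hs
        rw [Subgroup.mem_centralizer_iff]
        intro x hx
        rw [Set.mem_singleton_iff] at hx
        subst hx
        have h1 : s * z = z * s := (hmemC s).1 (hT'C hs)
        have h2 : (y⁻¹ * s * y) * z = z * (y⁻¹ * s * y) := (hmemC _).1 (hT'C (hyN' s hs))
        have h3 : s * t = t * s := by
          rw [ht]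
          calc s * (y * z * y⁻¹) = y * ((y⁻¹ * s * y) * z) * y⁻¹ := by group
            _ = y * (z * (y⁻¹ * s * y)) * y⁻¹ := by rw [h2]
            _ = y * z * y⁻¹ * s := by group
        rw [mul_assoc, ← h3, ← mul_assoc, ← h1, mul_assoc]
      · rw [Subgroup.zpowers_le, Subgroup.mem_centralizer_iff]
        intro x hx
        rw [Set.mem_singleton_iff] at hx
        subst hx
        rw [mul_assoc, ← hyz, ← mul_assoc, ← hyt, mul_assoc, htz]
    intro s hs
    have := Subgroup.mem_centralizer_iff.1 (hle hs) (z * t) rfl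
    exact this.symm
  · intro v hv hall
    obtain ⟨g, hg⟩ := isConj_iff.1 hv
    set T₂ := T₁.map (MulAut.conj g⁻¹).toMonoidHom with hT₂
    have hT₂C : T₂ ≤ C := by
      rintro _ ⟨s, hs, rfl⟩
      rw [hmemC]
      have h1 := hall s hs
      rw [← hg] at h1
      show g⁻¹ * s * g⁻¹⁻¹ * z = z * (g⁻¹ * s * g⁻¹⁻¹)
      rw [inv_inv]
      calc g⁻¹ * s * g * z = g⁻¹ * (s * (g * z * g⁻¹)) * g := by group
        _ = g⁻¹ * ((g * z * g⁻¹) * s) * g := by rw [h1]
        _ = z * (g⁻¹ * s * g) := by group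
    have hT₂2 : IsPGroup 2 T₂ := hT₁2.map _
    obtain ⟨m, -, hm⟩ := exists_conj_le_of_not_dvd_relIndex C T' T₂ hT'2 hT'idx hT₂C hT₂2
    have hle : T₁.map (MulAut.conj (m * g⁻¹)).toMonoidHom ≤ T' := by
      rintro _ ⟨s, hs, rfl⟩
      have := hm (g⁻¹ * s * g) ⟨s, hs, by simp [MulAut.conj_apply]⟩
      have h2 : (MulAut.conj (m * g⁻¹)).toMonoidHom s = m * (g⁻¹ * s * g) * m⁻¹ := by
        simp [MulAut.conj_apply, mul_assoc]
      rw [h2]; exact this
    have hcard : Nat.card T₁ ≤ Nat.card T' := by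
      rw [← Subgroup.card_map_of_injective (K := T₁) (f := (MulAut.conj (m * g⁻¹)).toMonoidHom)
        (MulAut.conj (m * g⁻¹)).injective]
      exact Subgroup.card_le_of_le hle
    have : T' = T₁ := Subgroup.eq_of_le_of_card_ge le_sup_left hcard
    exact hyT (this ▸ hyT₁)

/-- An involution `z` isolated in a proper subgroup `H` (in the sense that `z^g ∈ H ↔ g ∈ H`)
all of whose products `z t` with commuting conjugates `t ≠ z` are also isolated has a conjugacy
class of odd size. -/
theorem isolated_odd_class_aux : ∀ (n : ℕ) (G : Type u) [Group G] [Finite G], Nat.card G = n →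
    ∀ (z : G) (H : Subgroup G), orderOf z = 2 → H ≠ ⊤ →
    (∀ g : G, g⁻¹ * z * g ∈ H ↔ g ∈ H) →
    (∀ t : G, IsConj z t → t ≠ z → t * z = z * t → ∀ g : G, g⁻¹ * (z * t) * g ∈ H ↔ g ∈ H) →
    ¬ 2 ∣ Nat.card {h : G // IsConj z h} := by
  intro n
  induction n using Nat.strong_induction_on with
  | _ n ih =>
  intro G _ _ hn z H hz hH h0 h1 hdvd
  have : Fact (Nat.Prime 2) := ⟨Nat.prime_two⟩
  have hzz : z * z = 1 := by rw [← pow_two, ← hz, pow_orderOf_eq_one]
  have hz1 : z ≠ 1 := by rintro rfl; simp at hz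
  have hsq : ∀ a : G, IsConj z a → a * a = 1 := by
    intro a ha
    obtain ⟨g, hg⟩ := isConj_iff.1 ha
    rw [← hg]
    calc g * z * g⁻¹ * (g * z * g⁻¹) = g * (z * z) * g⁻¹ := by group
      _ = 1 := by rw [hzz]; group
  have L0 : ∀ a g₁ : G, g₁ * z * g₁⁻¹ = a → ∀ x, x⁻¹ * a * x ∈ H ↔ g₁⁻¹ * x ∈ H := by
    intro a g₁ ha x
    rw [← h0 (g₁⁻¹ * x), ← ha]
    have : (g₁⁻¹ * x)⁻¹ * z * (g₁⁻¹ * x) = x⁻¹ * (g₁ * z * g₁⁻¹) * x := by group
    rw [this]
  have L1 : ∀ a b g₁ : G, g₁ * z * g₁⁻¹ = a → IsConj z b → b ≠ a → b * a = a * b →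
      ∀ x, x⁻¹ * (a * b) * x ∈ H ↔ g₁⁻¹ * x ∈ H := by
    intro a b g₁ ha hb hne hcomm x
    have hb' : IsConj z (g₁⁻¹ * b * g₁) :=
      hb.trans (isConj_iff.2 ⟨g₁⁻¹, by simp⟩)
    have hne' : g₁⁻¹ * b * g₁ ≠ z := by
      intro h; apply hne; rw [← ha, ← h]; group
    have hcomm' : g₁⁻¹ * b * g₁ * z = z * (g₁⁻¹ * b * g₁) := by
      have hz' : z = g₁⁻¹ * a * g₁ := by rw [← ha]; group
      rw [hz']
      calc g₁⁻¹ * b * g₁ * (g₁⁻¹ * a * g₁) = g₁⁻¹ * (b * a) * g₁ := by group
        _ = g₁⁻¹ * (a * b) * g₁ := by rw [hcomm]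
        _ = _ := by group
    rw [← h1 _ hb' hne' hcomm' (g₁⁻¹ * x)]
    have : (g₁⁻¹ * x)⁻¹ * (z * (g₁⁻¹ * b * g₁)) * (g₁⁻¹ * x) = x⁻¹ * ((g₁ * z * g₁⁻¹) * b) * x := by
      group
    rw [this, ha]
  have hDH : ∀ a g₁ : G, g₁ * z * g₁⁻¹ = a → (a ∈ H ↔ g₁ ∈ H) := by
    intro a g₁ ha
    have := L0 a g₁ ha 1
    rw [inv_one, one_mul, mul_one, mul_one, inv_mem_iff] at this
    exact this
  have C1 : ∀ a b : G, IsConj z a → IsConj z b → a ∈ H → b ∉ H →
      ∃ g ∈ Subgroup.closure ({a, b} : Set G), g * a * g⁻¹ = b := by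
    intro a b ha hb haH hbH
    obtain ⟨ga, hga⟩ := isConj_iff.1 ha
    obtain ⟨gb, hgb⟩ := isConj_iff.1 hb
    have haa : a * a = 1 := hsq a ha
    have hbb : b * b = 1 := hsq b hb
    rcases dihedral_refined haa hbb with h | ⟨w, hw, -, hwa, hwb, hcase⟩
    · exact h
    · exfalso
      have hw1 : w ≠ 1 := by rintro rfl; simp at hw
      have haw : IsConj z (a * w) := by
        rcases hcase with ⟨h, -⟩ | ⟨h, -⟩
        · exact ha.trans h
        · exact hb.trans h
      have hbw : IsConj z (b * w) := by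
        rcases hcase with ⟨-, h⟩ | ⟨-, h⟩
        · exact hb.trans h
        · exact ha.trans h
      have e1 := L1 a (a * w) ga hga haw (by intro h; apply hw1; simpa using h)
        (by rw [mul_assoc, hwa, ← mul_assoc]) 1
      have e2 := L1 b (b * w) gb hgb hbw (by intro h; apply hw1; simpa using h)
        (by rw [mul_assoc, hwb, ← mul_assoc]) 1
      have h3 : a * (a * w) = w := by rw [← mul_assoc, haa, one_mul]
      have h4 : b * (b * w) = w := by rw [← mul_assoc, hbb, one_mul]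
      rw [h3, inv_one, one_mul, mul_one, mul_one, inv_mem_iff] at e1
      rw [h4, inv_one, one_mul, mul_one, mul_one, inv_mem_iff] at e2
      exact hbH ((hDH b gb hgb).2 (e2.1 (e1.2 ((hDH a ga hga).1 haH))))
  have hidx : 2 ∣ (Subgroup.centralizer ({z} : Set G)).index := by
    rw [← Cfsg.Agent.Lib.Helper23.card_isConj_eq_index]; exact hdvd
  obtain ⟨T₁, t, htc, htne, htz, hT₁u, hT₁D⟩ := exists_big_two_subgroup z hz hidx
  have htt : t * t = 1 := hsq t htc
  set u := z * t with hu
  have huH : ∀ x, x⁻¹ * u * x ∈ H ↔ x ∈ H := h1 t htc htne htz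
  have huu : u * u = 1 := by
    rw [hu]
    calc z * t * (z * t) = z * (t * z) * t := by group
      _ = z * (z * t) * t := by rw [htz]
      _ = (z * z) * (t * t) := by group
      _ = 1 := by rw [hzz, htt, one_mul]
  have hunotD : ¬ IsConj z u := fun h => hT₁D u h hT₁u
  have huH1 : u ∈ H := by
    have := (huH 1).2 (one_mem H)
    rwa [inv_one, one_mul, mul_one] at this
  have hCu : ∀ c, c * u = u * c → c ∈ H := by
    intro c hc
    apply (huH c).1
    have : c⁻¹ * u * c = u := by rw [mul_assoc, ← hc, ← mul_assoc, inv_mul_cancel, one_mul]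
    rw [this]; exact huH1
  obtain ⟨g₀, hg₀⟩ : ∃ g₀, g₀ ∉ H := by
    by_contra h
    push Not at h
    exact hH (eq_top_iff.2 fun x _ => h x)
  set r := g₀ * z * g₀⁻¹ with hr
  have hrD : IsConj z r := isConj_iff.2 ⟨g₀, rfl⟩
  have hrH : r ∉ H := fun h => hg₀ ((hDH r g₀ rfl).1 h)
  have hrr : r * r = 1 := hsq r hrD
  rcases dihedral_refined huu hrr with ⟨g, -, hg⟩ | ⟨w, hw, -, hwu, hwr, hcase⟩
  · exact hunotD (hrD.trans (isConj_iff.2 ⟨g⁻¹, by rw [← hg]; group⟩))
  · have hww : w * w = 1 := by rw [← pow_two, ← hw, pow_orderOf_eq_one]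
    have hw1 : w ≠ 1 := by rintro rfl; simp at hw
    have hwH : w ∈ H := hCu w hwu
    rcases hcase with ⟨-, hrw⟩ | ⟨hd, -⟩
    · have e := L1 r (r * w) g₀ rfl (hrD.trans hrw) (by intro h; apply hw1; simpa using h)
        (by rw [mul_assoc, hwr, ← mul_assoc]) 1
      have h3 : r * (r * w) = w := by rw [← mul_assoc, hrr, one_mul]
      rw [h3, inv_one, one_mul, mul_one, mul_one, inv_mem_iff] at e
      exact hg₀ (e.1 hwH)
    · set d := u * w with hd'
      have hdD : IsConj z d := hrD.trans hd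
      have hdu : d * u = u * d := by rw [hd', mul_assoc, hwu]
      have hdH : d ∈ H := hCu d hdu
      have hdw : w * d = d * w := by rw [hd', ← mul_assoc, hwu]
      obtain ⟨gd, hgd⟩ := isConj_iff.1 hdD
      have hgdH : gd ∈ H := (hDH d gd hgd).1 hdH
      set X := Subgroup.centralizer ({w} : Set G) with hX
      have hmemX : ∀ x, x ∈ X ↔ x * w = w * x := by
        intro x; rw [hX, Subgroup.mem_centralizer_iff]; simp [eq_comm]
      have hXne : X ≠ ⊤ := by
        intro htop
        apply hT₁D d hdD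
        intro s hs
        have hsw : s * w = w * s := (hmemX s).1 (by rw [htop]; trivial)
        have h5 : s * u = u * s := hT₁u s hs
        calc s * d = (s * u) * w := (mul_assoc s u w).symm
          _ = (u * s) * w := by rw [h5]
          _ = u * (s * w) := mul_assoc u s w
          _ = u * (w * s) := by rw [hsw]
          _ = d * s := (mul_assoc u w s).symm
      have hXcard : Nat.card X < Nat.card G :=
        lt_of_le_of_ne (Subgroup.card_le_card_group X)
          (fun h => hXne ((Subgroup.card_eq_iff_eq_top X).1 h))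
      have hdX : d ∈ X := (hmemX d).2 hdw.symm
      have hrX : r ∈ X := (hmemX r).2 hwr.symm
      have hd2 : orderOf (⟨d, hdX⟩ : X) = 2 := by
        rw [Subgroup.orderOf_mk]
        refine orderOf_eq_prime (by rw [pow_two]; exact hsq d hdD) ?_
        intro h
        rw [h] at hdD
        exact hz1 (isConj_one_left.1 hdD)
      have key := ih (Nat.card X) (by rw [← hn]; exact hXcard) X rfl ⟨d, hdX⟩ (H.subgroupOf X)
        hd2 ?_ ?_ ?_
      · apply key
        have step4 : ∀ e : G, IsConj z e → ∀ heX : e ∈ X,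
            IsConj (⟨d, hdX⟩ : X) ⟨e, heX⟩ := by
          intro e heD heX
          have hcl : ∀ a b : G, a ∈ X → b ∈ X → Subgroup.closure ({a, b} : Set G) ≤ X := by
            intro a b ha hb
            rw [Subgroup.closure_le]
            intro x hx
            rcases hx with rfl | rfl
            exacts [ha, hb]
          by_cases heH : e ∈ H
          · obtain ⟨g₁, hg₁, hg₁e⟩ := C1 e r heD hrD heH hrH
            obtain ⟨g₂, hg₂, hg₂d⟩ := C1 d r hdD hrD hdH hrH
            rw [isConj_iff]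
            refine ⟨(⟨g₁, hcl e r heX hrX hg₁⟩ : X)⁻¹ * ⟨g₂, hcl d r hdX hrX hg₂⟩, ?_⟩
            apply Subtype.ext
            show g₁⁻¹ * g₂ * d * (g₁⁻¹ * g₂)⁻¹ = e
            calc g₁⁻¹ * g₂ * d * (g₁⁻¹ * g₂)⁻¹ = g₁⁻¹ * (g₂ * d * g₂⁻¹) * g₁ := by group
              _ = g₁⁻¹ * (g₁ * e * g₁⁻¹) * g₁ := by rw [hg₂d, hg₁e]
              _ = e := by group
          · obtain ⟨g, hg, hge⟩ := C1 d e hdD heD hdH heH
            rw [isConj_iff]
            exact ⟨⟨g, hcl d e hdX heX hg⟩, Subtype.ext hge⟩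
        classical
        have hfin : Fintype {h : G // IsConj z h} := Fintype.ofFinite _
        let σ : Function.End {h : G // IsConj z h} :=
          fun h => ⟨w * h.1 * w⁻¹, h.2.trans (isConj_iff.2 ⟨w, rfl⟩)⟩
        have hσ : σ ^ 2 ^ 1 = 1 := by
          rw [pow_one, pow_two]
          funext h
          apply Subtype.ext
          show w * (w * h.1 * w⁻¹) * w⁻¹ = h.1
          calc w * (w * h.1 * w⁻¹) * w⁻¹ = (w * w) * h.1 * (w * w)⁻¹ := by group
            _ = h.1 := by rw [hww]; group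
        have hmod := Equiv.Perm.card_fixedPoints_modEq (p := 2) (n := 1) hσ
        rw [← Nat.card_eq_fintype_card, ← Nat.card_eq_fintype_card] at hmod
        have hfix : ∀ h : {h : G // IsConj z h}, h ∈ Function.fixedPoints σ ↔ h.1 ∈ X := by
          intro h
          rw [hmemX]
          constructor
          · intro hh
            have : w * h.1 * w⁻¹ = h.1 := congrArg Subtype.val hh
            calc h.1 * w = (w * h.1 * w⁻¹) * w := by rw [this]
              _ = w * h.1 := by group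
          · intro hh
            apply Subtype.ext
            show w * h.1 * w⁻¹ = h.1
            rw [← hh]; group
        have hcard : Nat.card {h : X // IsConj (⟨d, hdX⟩ : X) h} =
            Nat.card (Function.fixedPoints σ) := by
          apply Nat.card_congr
          refine
            { toFun := fun h => ⟨⟨h.1.1, ?_⟩, ?_⟩
              invFun := fun h => ⟨⟨h.1.1, (hfix h.1).1 h.2⟩, step4 h.1.1 h.1.2 _⟩
              left_inv := fun h => rfl
              right_inv := fun h => rfl }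
          · obtain ⟨c, hc⟩ := isConj_iff.1 h.2
            exact hdD.trans (isConj_iff.2 ⟨c.1, congrArg Subtype.val hc⟩)
          · exact (hfix _).2 h.1.2
        rw [hcard]
        exact (Nat.modEq_zero_iff_dvd.1 (hmod.symm.trans (Nat.modEq_zero_iff_dvd.2 hdvd)))
      · intro h
        have : (⟨r, hrX⟩ : X) ∈ H.subgroupOf X := by rw [h]; trivial
        exact hrH (Subgroup.mem_subgroupOf.1 this)
      · intro x
        rw [Subgroup.mem_subgroupOf, Subgroup.mem_subgroupOf]
        have := L0 d gd hgd x.1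
        rw [H.mul_mem_cancel_left (inv_mem hgdH)] at this
        exact this
      · intro t' ht' hne hcomm x
        rw [Subgroup.mem_subgroupOf, Subgroup.mem_subgroupOf]
        have ht'D : IsConj z t'.1 := by
          obtain ⟨c, hc⟩ := isConj_iff.1 ht'
          exact hdD.trans (isConj_iff.2 ⟨c.1, congrArg Subtype.val hc⟩)
        have := L1 d t'.1 gd hgd ht'D (fun h => hne (Subtype.ext h)) (congrArg Subtype.val hcomm) x.1
        rw [H.mul_mem_cancel_left (inv_mem hgdH)] at this
        exact this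

end Cfsg.Agent.Lib.Helper41
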