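import Mathlib
import Cfsg.Agent.Lib.Helper41.Meta2b

set_option autoImplicit false

namespace Cfsg.Agent.Lib.Helper41

open scoped commutatorElement

variable {X : Type*} [Group X]

set_option maxHeartbeats 1600000 in
/-- A finite `2`-group `X = ⟨g⟩⟨b⟩` with `⟨g⟩` normal and an automorphism fixing no subgroup of
index two is quaternion of order `8` or homocyclic of rank two. -/
theorem metacyclic_two_of_aut [Finite X] (hX : IsPGroup 2 X) {g b : X}
    (hN : (Subgroup.zpowers g).Normal) (hgen : ∀ x : X, ∃ i j : ℕ, x = g ^ i * b ^ j)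
    (α : MulAut X) (hα : ∀ M : Subgroup X, M.index = 2 → ¬ (∀ x, α x ∈ M ↔ x ∈ M)) :
    Nonempty (X ≃* QuaternionGroup 2) ∨
      ∃ n : ℕ, Nonempty (X ≃* Multiplicative (ZMod (2 ^ n)) × Multiplicative (ZMod (2 ^ n))) := by
  classical
  obtain ⟨h, hh⟩ : ∃ h, h = α g := ⟨_, rfl⟩
  have hmap : (Subgroup.zpowers g).map (α : X ≃* X).toMonoidHom = Subgroup.zpowers h := by
    rw [MonoidHom.map_zpowers, hh]; rfl
  have hN₂ : (Subgroup.zpowers h).Normal := by
    rw [← hmap]
    exact hN.map _ α.surjective
  have hpowg : ∀ u ∈ Subgroup.zpowers g, ∃ i : ℕ, g ^ i = u := fun u hu =>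
    (Submonoid.mem_powers_iff _ _).1 ((isOfFinOrder_of_finite g).mem_powers_iff_mem_zpowers.2 hu)
  have hpowh : ∀ u ∈ Subgroup.zpowers h, ∃ i : ℕ, h ^ i = u := fun u hu =>
    (Submonoid.mem_powers_iff _ _).1 ((isOfFinOrder_of_finite h).mem_powers_iff_mem_zpowers.2 hu)
  -- Step B
  have hsup : Subgroup.zpowers g ⊔ Subgroup.zpowers h = ⊤ := by
    by_contra hne
    obtain ⟨M, hle, hM⟩ := exists_index_two_ge hX _ hne
    have hgM : g ∈ M := hle (Subgroup.mem_sup_left (Subgroup.mem_zpowers g))
    have hhM : h ∈ M := hle (Subgroup.mem_sup_right (Subgroup.mem_zpowers h))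
    have hαgM : α g ∈ M := hh ▸ hhM
    have hbM : b ∉ M := fun hb => not_both_mem_of_index_two hM hgen ⟨hgM, hb⟩
    have hM' : (M.comap α.toMonoidHom).index = 2 := by
      rw [Subgroup.index_comap_of_surjective _ α.surjective]; exact hM
    have hbM' : b ∉ M.comap α.toMonoidHom := by
      intro hb
      have hb' : α b ∈ M := hb
      have : M = ⊤ := by
        rw [eq_top_iff]
        intro y _
        obtain ⟨x, rfl⟩ := α.surjective y
        obtain ⟨i, j, rfl⟩ := hgen x
        rw [map_mul, map_pow, map_pow]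
        exact mul_mem (pow_mem hαgM i) (pow_mem hb' j)
      rw [this, Subgroup.index_top] at hM; omega
    have heq : M.comap α.toMonoidHom = M := index_two_ext hM' hM hgen
      ⟨fun _ => hgM, fun _ => hαgM⟩ ⟨fun hb => absurd hb hbM', fun hb => absurd hb hbM⟩
    apply hα M hM
    intro x
    have : x ∈ M.comap α.toMonoidHom ↔ x ∈ M := by rw [heq]
    exact this
  -- Step C
  have hdec : ∀ x : X, ∃ u ∈ Subgroup.zpowers g, ∃ v ∈ Subgroup.zpowers h, u * v = x := by
    intro x
    have : x ∈ Subgroup.zpowers g ⊔ Subgroup.zpowers h := by rw [hsup]; trivial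
    exact Subgroup.mem_sup_of_normal_right.1 this
  -- Step D
  have hcommN : ∀ x y : X, ⁅x, y⁆ ∈ Subgroup.zpowers g := by
    intro x y
    obtain ⟨i, j, rfl⟩ := hgen x
    obtain ⟨k, l, rfl⟩ := hgen y
    have hπg : (QuotientGroup.mk' (Subgroup.zpowers g)) g = 1 :=
      (QuotientGroup.eq_one_iff g).2 (Subgroup.mem_zpowers g)
    have hπ : ∀ i j : ℕ, (QuotientGroup.mk' (Subgroup.zpowers g)) (g ^ i * b ^ j) =
        ((QuotientGroup.mk' (Subgroup.zpowers g)) b) ^ j := by
      intro i j; rw [map_mul, map_pow, map_pow, hπg, one_pow, one_mul]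
    have : (QuotientGroup.mk' (Subgroup.zpowers g)) ⁅g ^ i * b ^ j, g ^ k * b ^ l⁆ = 1 := by
      rw [map_commutatorElement, hπ, hπ, commutatorElement_eq_one_iff_commute]
      exact (Commute.refl _).pow_pow j l
    exact (QuotientGroup.eq_one_iff _).1 this
  have hcommN₂ : ∀ x y : X, ⁅x, y⁆ ∈ Subgroup.zpowers h := by
    intro x y
    have h1 := hcommN (α.symm x) (α.symm y)
    obtain ⟨e, he⟩ := Subgroup.mem_zpowers_iff.1 h1
    have h2 : α ⁅α.symm x, α.symm y⁆ = ⁅x, y⁆ := by rw [map_commutatorElement]; simp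
    rw [← h2, ← he, map_zpow, ← hh]
    exact Subgroup.zpow_mem_zpowers h e
  have hcen : ∀ y, y ∈ Subgroup.zpowers g → y ∈ Subgroup.zpowers h → ∀ x, y * x = x * y := by
    intro y hyg hyh x
    obtain ⟨u, hu, v, hv, rfl⟩ := hdec x
    obtain ⟨e, rfl⟩ := Subgroup.mem_zpowers_iff.1 hu
    obtain ⟨f, rfl⟩ := Subgroup.mem_zpowers_iff.1 hv
    obtain ⟨e', he'⟩ := Subgroup.mem_zpowers_iff.1 hyg
    obtain ⟨f', hf'⟩ := Subgroup.mem_zpowers_iff.1 hyh
    have c1 : y * g ^ e = g ^ e * y := by rw [← he']; exact (Commute.zpow_zpow_self g e' e).eq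
    have c2 : y * h ^ f = h ^ f * y := by rw [← hf']; exact (Commute.zpow_zpow_self h f' f).eq
    rw [← mul_assoc, c1, mul_assoc, c2, mul_assoc]
  have hcl : ∀ x y w : X, ⁅x, y⁆ * w = w * ⁅x, y⁆ := fun x y w =>
    hcen _ (hcommN x y) (hcommN₂ x y) w
  -- Step E
  obtain ⟨m, hm⟩ : ∃ m, orderOf g = 2 ^ m := by
    obtain ⟨k, hk⟩ := hX g
    obtain ⟨m, -, hm⟩ := (Nat.dvd_prime_pow Nat.prime_two).1 (orderOf_dvd_of_pow_eq_one hk)
    exact ⟨m, hm⟩
  have hordh : orderOf h = 2 ^ m := by rw [hh, ← hm]; exact MulEquiv.orderOf_eq α g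
  by_cases hI : Subgroup.zpowers g ⊓ Subgroup.zpowers h = ⊥
  · right
    have hab : ∀ x y : X, x * y = y * x := by
      intro x y
      have : ⁅x, y⁆ ∈ Subgroup.zpowers g ⊓ Subgroup.zpowers h :=
        Subgroup.mem_inf.2 ⟨hcommN x y, hcommN₂ x y⟩
      rw [hI, Subgroup.mem_bot] at this
      exact (commutatorElement_eq_one_iff_commute.1 this).eq
    let f : ↥(Subgroup.zpowers g) × ↥(Subgroup.zpowers h) →* X :=
      { toFun := fun p => (p.1 : X) * (p.2 : X)
        map_one' := by simp
        map_mul' := by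
          intro p p'
          show ((p.1 * p'.1 : ↥(Subgroup.zpowers g)) : X) *
            ((p.2 * p'.2 : ↥(Subgroup.zpowers h)) : X) = _
          rw [Subgroup.coe_mul, Subgroup.coe_mul, mul_assoc, ← mul_assoc (p'.1 : X),
            hab (p'.1 : X) (p.2 : X)]
          simp only [mul_assoc] }
    have hinj : Function.Injective f := by
      rw [injective_iff_map_eq_one]
      rintro ⟨u, v⟩ huv
      have huv' : (u : X) * (v : X) = 1 := huv
      have hu : (u : X) = (v : X)⁻¹ := eq_inv_of_mul_eq_one_left huv'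
      have hmem : (u : X) ∈ Subgroup.zpowers g ⊓ Subgroup.zpowers h :=
        Subgroup.mem_inf.2 ⟨u.2, by rw [hu]; exact inv_mem v.2⟩
      rw [hI, Subgroup.mem_bot] at hmem
      have hv : (v : X) = 1 := by rw [hmem, one_mul] at huv'; exact huv'
      exact Prod.ext (Subtype.ext hmem) (Subtype.ext hv)
    have hsurj : Function.Surjective f := by
      intro x
      obtain ⟨u, hu, v, hv, rfl⟩ := hdec x
      exact ⟨(⟨u, hu⟩, ⟨v, hv⟩), rfl⟩
    have e₁ : ↥(Subgroup.zpowers g) × ↥(Subgroup.zpowers h) ≃* X :=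
      MulEquiv.ofBijective f ⟨hinj, hsurj⟩
    have e₂ : Multiplicative (ZMod (Nat.card ↥(Subgroup.zpowers g))) ≃* ↥(Subgroup.zpowers g) :=
      zmodCyclicMulEquiv (Subgroup.isCyclic_zpowers g)
    have e₃ : ↥(Subgroup.zpowers g) ≃* ↥(Subgroup.zpowers h) :=
      ((α : X ≃* X).subgroupMap (Subgroup.zpowers g)).trans (MulEquiv.subgroupCongr hmap)
    have e : X ≃* Multiplicative (ZMod (Nat.card ↥(Subgroup.zpowers g))) ×
        Multiplicative (ZMod (Nat.card ↥(Subgroup.zpowers g))) :=
      e₁.symm.trans (MulEquiv.prodCongr e₂.symm (e₃.symm.trans e₂.symm))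
    rw [Nat.card_zpowers, hm] at e
    exact ⟨m, ⟨e⟩⟩
  · left
    obtain ⟨s, hsI, hs1⟩ : ∃ s ∈ Subgroup.zpowers g ⊓ Subgroup.zpowers h, s ≠ 1 := by
      by_contra hcon
      push Not at hcon
      exact hI ((Subgroup.eq_bot_iff_forall _).2 hcon)
    have hsg := (Subgroup.mem_inf.1 hsI).1
    have hsh := (Subgroup.mem_inf.1 hsI).2
    have hm0 : m ≠ 0 := by
      rintro rfl
      rw [pow_zero, orderOf_eq_one_iff] at hm
      rw [hm, Subgroup.zpowers_one_eq_bot, Subgroup.mem_bot] at hsg
      exact hs1 hsg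
    obtain ⟨k, rfl⟩ := Nat.exists_eq_succ_of_ne_zero hm0
    have htg : g ^ 2 ^ k ∈ Subgroup.zpowers s := cyc_two_unique_invol hm hsg hs1
    obtain ⟨t, ht⟩ : ∃ t, t = g ^ 2 ^ k := ⟨_, rfl⟩
    have hnd : ¬ 2 ^ (k + 1) ∣ 2 ^ k := by
      intro hd
      have := Nat.le_of_dvd (by positivity) hd
      rw [pow_succ] at this
      have : 0 < 2 ^ k := by positivity
      omega
    have ht1 : t ≠ 1 := by
      rw [ht]; intro h0
      have := orderOf_dvd_of_pow_eq_one h0
      rw [hm] at this
      exact hnd this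
    have htt : t * t = 1 := by
      rw [ht, ← pow_add, ← two_mul, ← pow_succ', ← hm]; exact pow_orderOf_eq_one g
    have htI_g : t ∈ Subgroup.zpowers g := by
      rw [ht]; exact pow_mem (Subgroup.mem_zpowers g) _
    have htI_h : t ∈ Subgroup.zpowers h := by
      rw [ht]; exact (Subgroup.zpowers_le.2 hsh) htg
    have htc : ∀ x, t * x = x * t := hcen t htI_g htI_h
    have hth : h ^ 2 ^ k = t := by
      have h1 : h ^ 2 ^ k ∈ Subgroup.zpowers t := cyc_two_unique_invol hordh htI_h ht1
      obtain ⟨e, he⟩ := Subgroup.mem_zpowers_iff.1 h1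
      rcases Int.even_or_odd' e with ⟨r, hr | hr⟩
      · exfalso
        have : h ^ 2 ^ k = 1 := by
          rw [← he, hr, zpow_mul, zpow_two, htt, one_zpow]
        have hd := orderOf_dvd_of_pow_eq_one this
        rw [hordh] at hd
        exact hnd hd
      · rw [← he, hr, zpow_add, zpow_mul, zpow_two, htt, one_zpow, one_mul, zpow_one]
    rcases Nat.eq_zero_or_pos k with hk0 | hkpos
    · exfalso
      subst hk0
      have hgt : g = t := by rw [ht]; simp
      have hht : h = t := by rw [← hth]; simp
      have hall : ∀ x : X, x ∈ Subgroup.zpowers g := by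
        intro x
        obtain ⟨u, hu, v, hv, rfl⟩ := hdec x
        rw [hht, ← hgt] at hv
        exact mul_mem hu hv
      have hcard : Nat.card X = 2 := by
        have h1 : Subgroup.zpowers g = ⊤ := eq_top_iff.2 fun x _ => hall x
        have h2 : Nat.card ↥(Subgroup.zpowers g) = 2 := by rw [Nat.card_zpowers, hm]; norm_num
        rw [h1, Subgroup.card_top] at h2; exact h2
      apply hα ⊥ (by rw [Subgroup.index_bot]; exact hcard)
      intro x
      simp [Subgroup.mem_bot]
    · obtain ⟨k', rfl⟩ := Nat.exists_eq_succ_of_ne_zero hkpos.ne'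
      obtain ⟨c, hc⟩ : ∃ c, c = ⁅g, h⁆ := ⟨_, rfl⟩
      have hcg : c ∈ Subgroup.zpowers g := hc ▸ hcommN g h
      have hccen : ∀ w : X, c * w = w * c := fun w => by rw [hc]; exact hcl g h w
      have hcpow : c ^ 2 ^ (k' + 1) = 1 := by
        rw [hc, ← comm_pow_left_of_central (hcl g h), ← ht, commutatorElement_eq_one_iff_commute]
        exact htc h
      obtain ⟨e, he⟩ := hpowg c hcg
      have he2 : 2 ∣ e := by
        have : g ^ (e * 2 ^ (k' + 1)) = 1 := by rw [pow_mul, he, hcpow]
        have hd := orderOf_dvd_of_pow_eq_one this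
        rw [hm] at hd
        have : 2 ^ (k' + 1) * 2 ∣ 2 ^ (k' + 1) * e := by rw [← pow_succ, mul_comm _ e]; exact hd
        exact Nat.dvd_of_mul_dvd_mul_left (by positivity) this
      obtain ⟨e', rfl⟩ := he2
      have key : c ^ 2 ^ k' = 1 ∨ (k' = 0 ∧ c = t) := by
        rcases Nat.even_or_odd e' with ⟨e'', he''⟩ | hodd
        · left
          rw [← he, ← pow_mul]
          have : 2 * e' * 2 ^ k' = 2 ^ (k' + 1 + 1) * e'' := by rw [he'']; ring
          rw [this, pow_mul, ← hm, pow_orderOf_eq_one, one_pow]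
        · right
          have hg2 : ∀ w : X, (g * g) * w = w * (g * g) := by
            have hcop : Nat.Coprime e' (2 ^ (k' + 1 + 1)) :=
              Nat.Coprime.pow_right _ (Nat.coprime_two_right.2 hodd)
            obtain ⟨f, hf⟩ := Nat.exists_mul_mod_eq_one_of_coprime hcop
              (Nat.one_lt_two_pow (by omega))
            have hgf : c ^ f = g * g := by
              have h1 : e' * f = 2 ^ (k' + 1 + 1) * (e' * f / 2 ^ (k' + 1 + 1)) + 1 := by
                have := Nat.div_add_mod (e' * f) (2 ^ (k' + 1 + 1))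
                omega
              rw [← he, ← pow_mul, mul_assoc, h1, mul_add, pow_add, mul_one, ← mul_assoc,
                mul_comm 2 (2 ^ (k' + 1 + 1)), mul_assoc, pow_mul, ← hm, pow_orderOf_eq_one,
                one_pow, one_mul, pow_two]
            intro w
            rw [← hgf]
            exact (Commute.pow_left (show Commute c w from hccen w) f).eq
          have hc2 : c * c = 1 := by
            have : ⁅g * g, h⁆ = c * c := by rw [comm_mul_left_of_central (hcl g h), ← hc]
            rw [← this, commutatorElement_eq_one_iff_commute]; exact hg2 h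
          have h4 : g ^ (4 * e') = 1 := by
            have : g ^ (4 * e') = c * c := by
              rw [← he, ← pow_add]; congr 1; omega
            rw [this, hc2]
          have hd := orderOf_dvd_of_pow_eq_one h4
          rw [hm] at hd
          have hk'0 : k' = 0 := by
            by_contra hk'
            obtain ⟨k'', rfl⟩ := Nat.exists_eq_succ_of_ne_zero hk'
            have h8 : 8 ∣ 4 * e' := by
              refine Dvd.dvd.trans ?_ hd
              exact ⟨2 ^ k'', by simp only [Nat.succ_eq_add_one]; ring⟩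
            obtain ⟨r, hr⟩ := hodd
            omega
          refine ⟨hk'0, ?_⟩
          subst hk'0
          obtain ⟨r, hr⟩ := hodd
          have hg4 : g ^ 4 = 1 := by
            have := pow_orderOf_eq_one g; rw [hm] at this; simpa using this
          rw [← he, hr, ht]
          calc g ^ (2 * (2 * r + 1)) = (g ^ 4) ^ r * g ^ 2 := by
                rw [← pow_mul, ← pow_add]; congr 1; ring
            _ = g ^ 2 ^ (0 + 1) := by rw [hg4, one_pow, one_mul]; norm_num
      rcases key with hck | ⟨hk'0, hct⟩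
      · exfalso
        have hgen2 : ∀ y : X, ⁅g, y⁆ ∈ Subgroup.zpowers c → ⁅h, y⁆ ∈ Subgroup.zpowers c →
            ∀ x : X, ⁅x, y⁆ ∈ Subgroup.zpowers c := by
          intro y h1 h2 x
          obtain ⟨u, hu, v, hv, rfl⟩ := hdec x
          obtain ⟨i, rfl⟩ := hpowg u hu
          obtain ⟨j, rfl⟩ := hpowh v hv
          rw [comm_mul_left_of_central (hcl _ _), comm_pow_left_of_central (hcl _ _),
            comm_pow_left_of_central (hcl _ _)]
          exact mul_mem (pow_mem h1 i) (pow_mem h2 j)
        have hcg' : ∀ x : X, ⁅x, g⁆ ∈ Subgroup.zpowers c := hgen2 g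
          (by rw [commutatorElement_self]; exact one_mem _)
          (by rw [← commutatorElement_inv, ← hc]; exact inv_mem (Subgroup.mem_zpowers c))
        have hch' : ∀ x : X, ⁅x, h⁆ ∈ Subgroup.zpowers c := hgen2 h
          (by rw [← hc]; exact Subgroup.mem_zpowers c)
          (by rw [commutatorElement_self]; exact one_mem _)
        have hpowc : ∀ x y : X, ⁅x, y⁆ ∈ Subgroup.zpowers c := by
          intro x y
          have h1 : ⁅g, x⁆ ∈ Subgroup.zpowers c := by
            rw [← commutatorElement_inv]; exact inv_mem (hcg' x)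
          have h2 : ⁅h, x⁆ ∈ Subgroup.zpowers c := by
            rw [← commutatorElement_inv]; exact inv_mem (hch' x)
          have := hgen2 x h1 h2 y
          rw [← commutatorElement_inv]; exact inv_mem this
        have hdpow : ∀ x y : X, ⁅x, y⁆ ^ 2 ^ k' = 1 := by
          intro x y
          obtain ⟨r, hr⟩ := Subgroup.mem_zpowers_iff.1 (hpowc x y)
          rw [← hr, ← zpow_natCast, ← zpow_mul, mul_comm, zpow_mul, zpow_natCast, hck, one_zpow]
        have hhom : ∀ x y : X, (x * y) ^ 2 ^ (k' + 1) = x ^ 2 ^ (k' + 1) * y ^ 2 ^ (k' + 1) := by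
          intro x y
          have hz : y * x = ⁅y, x⁆ * (x * y) := by simp only [commutatorElement_def]; group
          rw [mul_pow_comm_central hz (hcl y x x) (hcl y x y)]
          have hdiv : 2 ^ k' ∣ (2 ^ (k' + 1)).choose 2 := by
            rw [Nat.choose_two_right]
            refine ⟨2 ^ (k' + 1) - 1, ?_⟩
            rw [pow_succ, mul_comm (2 ^ k') 2, mul_assoc, Nat.mul_div_cancel_left _ (by norm_num)]
          obtain ⟨r, hr⟩ := hdiv
          rw [hr, pow_mul, hdpow, one_pow, one_mul]
        let M : Subgroup X :=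
          { carrier := {x | x ^ 2 ^ (k' + 1) = 1}
            mul_mem' := by
              intro x y hx hy
              show (x * y) ^ 2 ^ (k' + 1) = 1
              rw [hhom, show x ^ 2 ^ (k' + 1) = 1 from hx, show y ^ 2 ^ (k' + 1) = 1 from hy,
                one_mul]
            one_mem' := one_pow _
            inv_mem' := by
              intro x hx
              show x⁻¹ ^ 2 ^ (k' + 1) = 1
              rw [inv_pow, show x ^ 2 ^ (k' + 1) = 1 from hx, inv_one] }
        have hMmem : ∀ x, x ∈ M ↔ x ^ 2 ^ (k' + 1) = 1 := fun x => Iff.rfl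
        have htpow : ∀ r : ℕ, t ^ r = 1 ∨ t ^ r = t := by
          intro r
          induction r with
          | zero => left; simp
          | succ r ih =>
            rcases ih with h0 | h0
            · right; rw [pow_succ, h0, one_mul]
            · left; rw [pow_succ, h0, htt]
        have hpow_t : ∀ x : X, x ^ 2 ^ (k' + 1) = 1 ∨ x ^ 2 ^ (k' + 1) = t := by
          intro x
          obtain ⟨u, hu, v, hv, rfl⟩ := hdec x
          obtain ⟨i, rfl⟩ := hpowg u hu
          obtain ⟨j, rfl⟩ := hpowh v hv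
          rw [hhom, ← pow_mul, ← pow_mul, mul_comm i, mul_comm j, pow_mul, pow_mul, ← ht, hth,
            ← pow_add]
          exact htpow _
        have hMi : M.index = 2 := by
          rw [Subgroup.index_eq_two_iff]
          refine ⟨g, fun x => ?_⟩
          rw [hMmem, hMmem, hhom, ← ht]
          rcases hpow_t x with hx | hx
          · rw [hx, one_mul]; exact Or.inr ⟨rfl, ht1⟩
          · rw [hx, htt]; exact Or.inl ⟨rfl, ht1⟩
        apply hα M hMi
        intro x
        rw [hMmem, hMmem, ← map_pow]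
        exact ⟨fun h0 => α.injective (by rw [h0, map_one]), fun h0 => by rw [h0, map_one]⟩
      · subst hk'0
        have hg4 : orderOf g = 2 * 2 := by rw [hm]; norm_num
        have hhh : h * h = g ^ 2 := by
          have h1 := hth
          rw [ht] at h1
          have h2 : h ^ 2 = g ^ 2 := by simpa using h1
          rw [← h2, pow_two]
        have hgh : g * h = h * g⁻¹ := by
          have h1 : ⁅g, h⁆ = g * g := by rw [← hc, hct, ht]; norm_num [pow_two]
          have h3 : h * g⁻¹ * h⁻¹ = g := by
            have : g * (h * g⁻¹ * h⁻¹) = g * g := by rw [← h1, commutatorElement_def]; group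
            exact mul_left_cancel this
          calc g * h = (h * g⁻¹ * h⁻¹) * h := by rw [h3]
            _ = h * g⁻¹ := by group
        have hg4' : g ^ (2 * 2) = 1 := by rw [← hg4]; exact pow_orderOf_eq_one g
        let φ : QuaternionGroup 2 →* X :=
          Cfsg.Agent.Lib.Helper7.quatHom (n := 2) (by norm_num) g h hg4' hhh hgh
        have hinj : Function.Injective φ :=
          Cfsg.Agent.Lib.Helper7.quatHom_injective (n := 2) (le_refl 2) g h hg4 hhh hgh
        have hsurj : Function.Surjective φ := by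
          have hgr : g ∈ φ.range := by
            refine ⟨QuaternionGroup.a 1, ?_⟩
            show g ^ (1 : ZMod (2 * 2)).val = g
            have : (1 : ZMod (2 * 2)).val = 1 := rfl
            rw [this, pow_one]
          have hhr : h ∈ φ.range := by
            refine ⟨QuaternionGroup.xa 0, ?_⟩
            show h * g ^ (0 : ZMod (2 * 2)).val = h
            have : (0 : ZMod (2 * 2)).val = 0 := rfl
            rw [this, pow_zero, mul_one]
          intro x
          obtain ⟨u, hu, v, hv, rfl⟩ := hdec x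
          exact mul_mem (Subgroup.zpowers_le.2 hgr hu) (Subgroup.zpowers_le.2 hhr hv)
        exact ⟨(MulEquiv.ofBijective φ ⟨hinj, hsurj⟩).symm⟩

end Cfsg.Agent.Lib.Helper41
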