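import Mathlib
import Cfsg.Prelude.Def_GeometricClasses
import Cfsg.Prelude.Def_LieClassical
import Cfsg.Agent.Lib.Helper44.O9Defs

/-! Project O9 (helper44, statement S5835), piece ST9: for `q = 3` an isometry in the tensor wreath
subgroup `3 ≀ 2` maps each of the nine lines of `frame9` onto one of them. -/

set_option autoImplicit false

namespace Cfsg.Agent.Lib.Helper44.O9

open Matrix Cfsg.Geo
open scoped Kronecker

variable {n : ℕ} {F : Type*} [Field F] [Fintype F]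

theorem ST9_sum2 (Φ : Fin 3 → Fin 3 → F) :
    ∑ a : Fin 2 → Fin 3, Φ (a 0) (a 1) = ∑ p, ∑ p', Φ p p' := by
  calc ∑ a : Fin 2 → Fin 3, Φ (a 0) (a 1) = ∑ z : Fin 3 × Fin 3, Φ z.1 z.2 :=
        Fintype.sum_equiv (finTwoArrowEquiv (Fin 3)) _ _ (fun a => rfl)
    _ = ∑ p, ∑ p', Φ p p' := Fintype.sum_prod_type _

theorem ST9_expand (f₁ : (Fin 3 → F) → (Fin 3 → F) → F) (hb : IsBilinearForm f₁)
    (x y : Fin 3 → F) : f₁ x y = ∑ p, ∑ q, x p * gramMatrix f₁ p q * y q := by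
  let B : LinearMap.BilinForm F (Fin 3 → F) := LinearMap.mk₂ F f₁ hb.add_left
    (fun c x v => by rw [smul_eq_mul]; exact hb.smul_left c x v) hb.add_right
    (fun c x v => by rw [smul_eq_mul]; exact hb.smul_right c x v)
  have h1 : B x y = Matrix.toBilin' (LinearMap.BilinForm.toMatrix' B) x y := by
    rw [Matrix.toBilin'_toMatrix']
  rw [Matrix.toBilin'_apply] at h1
  simp only [LinearMap.BilinForm.toMatrix'_apply] at h1
  exact h1

theorem ST9_tform (f₁ : (Fin 3 → F) → (Fin 3 → F) → F) (hb : IsBilinearForm f₁)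
    (u v u' v' : Fin 3 → F) :
    ∑ a : Fin 2 → Fin 3, ∑ b : Fin 2 → Fin 3,
      tvec u v a * (∏ i, gramMatrix f₁ (a i) (b i)) * id (tvec u' v' b) = f₁ u u' * f₁ v v' := by
  have step1 : ∀ a : Fin 2 → Fin 3,
      (∑ b : Fin 2 → Fin 3, tvec u v a * (∏ i, gramMatrix f₁ (a i) (b i)) * id (tvec u' v' b)) =
        ∑ q, ∑ q', u (a 0) * v (a 1) * (gramMatrix f₁ (a 0) q * gramMatrix f₁ (a 1) q') *
          (u' q * v' q') := by
    intro a
    have e1 : (∑ b : Fin 2 → Fin 3, tvec u v a * (∏ i, gramMatrix f₁ (a i) (b i)) *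
        id (tvec u' v' b)) = ∑ b : Fin 2 → Fin 3, u (a 0) * v (a 1) *
          (gramMatrix f₁ (a 0) (b 0) * gramMatrix f₁ (a 1) (b 1)) * (u' (b 0) * v' (b 1)) :=
      Finset.sum_congr rfl (fun b _ => by rw [Fin.prod_univ_two]; rfl)
    exact e1.trans (ST9_sum2 (fun q q' => u (a 0) * v (a 1) *
      (gramMatrix f₁ (a 0) q * gramMatrix f₁ (a 1) q') * (u' q * v' q')))
  calc ∑ a : Fin 2 → Fin 3, ∑ b : Fin 2 → Fin 3,
        tvec u v a * (∏ i, gramMatrix f₁ (a i) (b i)) * id (tvec u' v' b)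
      = ∑ a : Fin 2 → Fin 3, ∑ q, ∑ q', u (a 0) * v (a 1) *
          (gramMatrix f₁ (a 0) q * gramMatrix f₁ (a 1) q') * (u' q * v' q') :=
        Finset.sum_congr rfl (fun a _ => step1 a)
    _ = ∑ p, ∑ p', ∑ q, ∑ q', u p * v p' * (gramMatrix f₁ p q * gramMatrix f₁ p' q') *
          (u' q * v' q') :=
        ST9_sum2 (fun p p' => ∑ q, ∑ q', u p * v p' *
          (gramMatrix f₁ p q * gramMatrix f₁ p' q') * (u' q * v' q'))
    _ = f₁ u u' * f₁ v v' := by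
        rw [ST9_expand f₁ hb u u', ST9_expand f₁ hb v v']
        simp only [Fin.sum_univ_three]
        ring

theorem ST9_act1 (s : Matrix (Fin 2 → Fin 3) (Fin 2 → Fin 3) F) (a b : Matrix (Fin 3) (Fin 3) F)
    (hs : ∀ x y : Fin 2 → Fin 3, s x y = a (x 0) (y 0) * b (x 1) (y 1)) (u v : Fin 3 → F) :
    s *ᵥ tvec u v = tvec (a *ᵥ u) (b *ᵥ v) := by
  funext x
  have e1 : (∑ y : Fin 2 → Fin 3, s x y * tvec u v y) =
      ∑ y : Fin 2 → Fin 3, a (x 0) (y 0) * b (x 1) (y 1) * (u (y 0) * v (y 1)) :=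
    Finset.sum_congr rfl (fun y _ => by rw [hs]; rfl)
  have e2 := ST9_sum2 (fun q q' => a (x 0) q * b (x 1) q' * (u q * v q'))
  show ∑ y : Fin 2 → Fin 3, s x y * tvec u v y =
    (∑ q, a (x 0) q * u q) * (∑ q', b (x 1) q' * v q')
  refine (e1.trans e2).trans ?_
  simp only [Fin.sum_univ_three]
  ring

theorem ST9_act2 (s : Matrix (Fin 2 → Fin 3) (Fin 2 → Fin 3) F) (a b : Matrix (Fin 3) (Fin 3) F)
    (hs : ∀ x y : Fin 2 → Fin 3, s x y = a (x 0) (y 1) * b (x 1) (y 0)) (u v : Fin 3 → F) :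
    s *ᵥ tvec u v = tvec (a *ᵥ v) (b *ᵥ u) := by
  funext x
  have e1 : (∑ y : Fin 2 → Fin 3, s x y * tvec u v y) =
      ∑ y : Fin 2 → Fin 3, a (x 0) (y 1) * b (x 1) (y 0) * (u (y 0) * v (y 1)) :=
    Finset.sum_congr rfl (fun y _ => by rw [hs]; rfl)
  have e2 := ST9_sum2 (fun q q' => a (x 0) q' * b (x 1) q * (u q * v q'))
  show ∑ y : Fin 2 → Fin 3, s x y * tvec u v y =
    (∑ q, a (x 0) q * v q) * (∑ q', b (x 1) q' * u q')
  refine (e1.trans e2).trans ?_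
  simp only [Fin.sum_univ_three]
  ring

theorem ST9_mulVec_single (A : Matrix (Fin 3) (Fin 3) F) (p : Fin 3) :
    A *ᵥ (Pi.single p (1 : F)) = fun p' => A p' p := by
  funext p'
  simp [Matrix.mulVec, dotProduct, Pi.single_apply]

theorem ST9_isom (hq : Fintype.card F = 3) (f₁ : (Fin 3 → F) → (Fin 3 → F) → F)
    (hb : IsBilinearForm f₁) (w : Fin 3 → Fin 3 → F) (ε : F) (hε : ε ≠ 0)
    (hnorm : ∀ j, f₁ (w j) (w j) = ε) (horth : ∀ j k, j ≠ k → f₁ (w j) (w k) = 0)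
    (A : Matrix (Fin 3) (Fin 3) F) (hdet : A.det ≠ 0) (K : F)
    (hK : ∀ x y, f₁ (A *ᵥ x) (A *ᵥ y) * K = f₁ x y * ε) :
    ∀ x y, f₁ (A *ᵥ x) (A *ᵥ y) = f₁ x y := by
  have hK0 : K ≠ 0 := by
    rintro rfl
    have h := hK (w 0) (w 0)
    rw [mul_zero, hnorm] at h
    exact hε (mul_self_eq_zero.mp h.symm)
  set μ : F := ε / K with hμdef
  have hμ : ∀ x y, f₁ (A *ᵥ x) (A *ᵥ y) = μ * f₁ x y := by
    intro x y
    have h := hK x y
    rw [hμdef]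
    field_simp
    linear_combination h
  have hW : (Matrix.of fun p j => w j p)ᵀ * gramMatrix f₁ * (Matrix.of fun p j => w j p) =
      ε • (1 : Matrix (Fin 3) (Fin 3) F) := by
    ext j k
    have h := ST9_expand f₁ hb (w j) (w k)
    simp only [Fin.sum_univ_three] at h
    simp only [Matrix.mul_apply, Matrix.transpose_apply, Matrix.of_apply, Matrix.smul_apply,
      Matrix.one_apply, Fin.sum_univ_three, smul_eq_mul]
    by_cases hjk : j = k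
    · subst hjk
      rw [if_pos rfl]
      have hn := hnorm j
      linear_combination hn - h
    · rw [if_neg hjk]
      have ho := horth j k hjk
      linear_combination ho - h
  have hGdet : (gramMatrix f₁).det ≠ 0 := by
    have h := congrArg Matrix.det hW
    rw [Matrix.det_mul, Matrix.det_mul, Matrix.det_transpose, Matrix.det_smul, Matrix.det_one,
      Fintype.card_fin, mul_one] at h
    intro h0
    rw [h0, mul_zero, zero_mul] at h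
    exact hε ((pow_eq_zero_iff (by norm_num : (3 : ℕ) ≠ 0)).mp h.symm)
  have key : ∀ p q, ∑ p', ∑ q', A p' p * gramMatrix f₁ p' q' * A q' q = μ * gramMatrix f₁ p q := by
    intro p q
    have h := hμ (Pi.single p 1) (Pi.single q 1)
    rw [ST9_expand f₁ hb (A *ᵥ Pi.single p 1) (A *ᵥ Pi.single q 1), ST9_mulVec_single,
      ST9_mulVec_single] at h
    exact h
  have hmat : Aᵀ * gramMatrix f₁ * A = μ • gramMatrix f₁ := by
    ext p q
    have h := key p q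
    simp only [Fin.sum_univ_three] at h
    simp only [Matrix.mul_apply, Matrix.transpose_apply, Matrix.smul_apply, Fin.sum_univ_three,
      smul_eq_mul]
    linear_combination h
  have hdet2 := congrArg Matrix.det hmat
  rw [Matrix.det_mul, Matrix.det_mul, Matrix.det_transpose, Matrix.det_smul, Fintype.card_fin]
    at hdet2
  have h3 : μ ^ 3 = μ := by
    have h := FiniteField.pow_card μ
    rwa [hq] at h
  have h4 : A.det ^ 2 = 1 := by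
    have h := FiniteField.pow_card_sub_one_eq_one A.det hdet
    rw [hq] at h
    exact h
  have h5 : (μ ^ 3 - A.det ^ 2) * (gramMatrix f₁).det = 0 := by linear_combination -hdet2
  have h6 : μ ^ 3 - A.det ^ 2 = 0 := by
    rcases mul_eq_zero.mp h5 with h | h
    · exact h
    · exact absurd h hGdet
  have hμ1 : μ = 1 := by
    calc μ = μ ^ 3 := h3.symm
      _ = A.det ^ 2 := sub_eq_zero.mp h6
      _ = 1 := h4
  intro x y
  rw [hμ, hμ1, one_mul]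

theorem ST9_frame (f₁ : (Fin 3 → F) → (Fin 3 → F) → F) (w : Fin 3 → Fin 3 → F) (ε : F)
    (hnorm : ∀ j, f₁ (w j) (w j) = ε)
    (hfr : ∀ x : Fin 3 → F, f₁ x x = ε → ∃ j, x = w j ∨ x = - w j)
    (A : Matrix (Fin 3) (Fin 3) F) (hA : ∀ x y, f₁ (A *ᵥ x) (A *ᵥ y) = f₁ x y) (j : Fin 3) :
    ∃ (j' : Fin 3) (δ : F), δ ≠ 0 ∧ A *ᵥ w j = δ • w j' := by
  have h : f₁ (A *ᵥ w j) (A *ᵥ w j) = ε := by rw [hA]; exact hnorm j
  obtain ⟨j', h' | h'⟩ := hfr _ h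
  · exact ⟨j', 1, one_ne_zero, by rw [h', one_smul]⟩
  · exact ⟨j', -1, neg_ne_zero.mpr one_ne_zero, by rw [h', neg_one_smul]⟩

theorem ST9_tvec_smul (c d : F) (x y : Fin 3 → F) :
    tvec (c • x) (d • y) = (c * d) • tvec x y := by
  funext a
  simp only [tvec, Pi.smul_apply, smul_eq_mul]
  ring

theorem ST9_gact (e : Fin 9 ≃ (Fin 2 → Fin 3)) (P : GL (Fin 9) F) (g : GL (Fin 9) F)
    (s : Matrix (Fin 2 → Fin 3) (Fin 2 → Fin 3) F)
    (hg : g.1 = P.1 * Matrix.reindex e.symm e.symm s * (P⁻¹ : GL (Fin 9) F).1)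
    (x : (Fin 2 → Fin 3) → F) :
    g.1 *ᵥ (P.1 *ᵥ (x ∘ e)) = P.1 *ᵥ ((s *ᵥ x) ∘ e) := by
  have h1 : (P⁻¹ : GL (Fin 9) F).1 * P.1 = 1 := by
    rw [← Units.val_mul, inv_mul_cancel, Units.val_one]
  have h2 : Matrix.reindex e.symm e.symm s *ᵥ (x ∘ e) = (s *ᵥ x) ∘ e := by
    funext i
    show ∑ j, s (e i) (e j) * x (e j) = ∑ b, s (e i) b * x b
    exact Equiv.sum_comp e (fun b => s (e i) b * x b)
  rw [hg, Matrix.mulVec_mulVec, Matrix.mul_assoc, Matrix.mul_assoc, h1, Matrix.mul_one,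
    ← Matrix.mulVec_mulVec, h2]

theorem ST9_polar_mulVec (Q : (Fin 9 → F) → F) (g : Matrix (Fin 9) (Fin 9) F)
    (hg : ∀ v, Q (g *ᵥ v) = Q v) (x y : Fin 9 → F) :
    QuadraticMap.polar Q (g *ᵥ x) (g *ᵥ y) = QuadraticMap.polar Q x y := by
  show Q (g *ᵥ x + g *ᵥ y) - Q (g *ᵥ x) - Q (g *ᵥ y) = Q (x + y) - Q x - Q y
  rw [← Matrix.mulVec_add, hg, hg, hg]

theorem ST9_mem (e : Fin 9 ≃ (Fin 2 → Fin 3)) (P : GL (Fin 9) F) (g : GL (Fin 9) F)
    (hg : g ∈ tensorWreathSubgroup 3 2 e P) :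
    ∃ s ∈ tensorWreathStandard 3 2 F,
      g.1 = P.1 * Matrix.reindex e.symm e.symm s.1 * (P⁻¹ : GL (Fin 9) F).1 := by
  unfold tensorWreathSubgroup at hg
  obtain ⟨_, ⟨x, hx, rfl⟩, rfl⟩ := hg
  refine ⟨x, hx, ?_⟩
  have h2 : ((glReindex e.symm x : GL (Fin 9) F) : Matrix (Fin 9) (Fin 9) F) =
      Matrix.reindexAlgEquiv F F e.symm (x : Matrix (Fin 2 → Fin 3) (Fin 2 → Fin 3) F) := rfl
  show (P * glReindex e.symm x * P⁻¹ : GL (Fin 9) F).1 = _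
  rw [Units.val_mul, Units.val_mul, h2]
  rfl

theorem ST9 (hq : Fintype.card F = 3) (h2 : (2 : F) ≠ 0) (Q : (Fin 9 → F) → F)
    (hQ : IsNondegenerateQuadraticForm Q)
    (e : Fin 9 ≃ (Fin 2 → Fin 3)) (P : GL (Fin 9) F)
    (f₁ : (Fin 3 → F) → (Fin 3 → F) → F) (hf₁ : IsSymmetricForm f₁)
    (ht : IsTensorPowerFormStructure id (QuadraticMap.polar Q) f₁ e P)
    (w : Fin 3 → Fin 3 → F) (ε : F) (hε : ε ≠ 0) (hnorm : ∀ j, f₁ (w j) (w j) = ε)
    (horth : ∀ j k, j ≠ k → f₁ (w j) (w k) = 0)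
    (hfr : ∀ x : Fin 3 → F, f₁ x x = ε → ∃ j, x = w j ∨ x = - w j)
    (htws : ∀ s : GL (Fin 2 → Fin 3) F, s ∈ tensorWreathStandard 3 2 F →
      ∃ a b : GL (Fin 3) F,
        (∀ x y : Fin 2 → Fin 3, s.1 x y = a.1 (x 0) (y 0) * b.1 (x 1) (y 1)) ∨
        (∀ x y : Fin 2 → Fin 3, s.1 x y = a.1 (x 0) (y 1) * b.1 (x 1) (y 0)))
    (g : GL (Fin 9) F) (hg : g ∈ tensorWreathSubgroup 3 2 e P)
    (hgQ : ∀ v, Q (g.1 *ᵥ v) = Q v) :
    ∀ i, ∃ j, (frame9 e P w i).map (Matrix.toLin' g.1) = frame9 e P w j := by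
  intro i
  obtain ⟨c, hc0, hc⟩ := ht
  have hb := hf₁.bilinear
  obtain ⟨s, hs, hgs⟩ := ST9_mem e P g hg
  obtain ⟨a, b, hab⟩ := htws s hs
  have hpres : ∀ X Y : (Fin 2 → Fin 3) → F,
      QuadraticMap.polar Q (P.1 *ᵥ ((s.1 *ᵥ X) ∘ e)) (P.1 *ᵥ ((s.1 *ᵥ Y) ∘ e)) =
        QuadraticMap.polar Q (P.1 *ᵥ (X ∘ e)) (P.1 *ᵥ (Y ∘ e)) := by
    intro X Y
    rw [← ST9_gact e P g s.1 hgs X, ← ST9_gact e P g s.1 hgs Y]
    exact ST9_polar_mulVec Q g.1 hgQ _ _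
  have hT : ∀ u v u' v' : Fin 3 → F,
      QuadraticMap.polar Q (P.1 *ᵥ (tvec u v ∘ e)) (P.1 *ᵥ (tvec u' v' ∘ e)) =
        c * (f₁ u u' * f₁ v v') := by
    intro u v u' v'
    rw [hc, ST9_tform f₁ hb]
  have H1 : ∀ u v u' v' : Fin 3 → F,
      f₁ (a.1 *ᵥ u) (a.1 *ᵥ u') * f₁ (b.1 *ᵥ v) (b.1 *ᵥ v') = f₁ u u' * f₁ v v' := by
    intro u v u' v'
    rcases hab with h | h
    · have h1 := hpres (tvec u v) (tvec u' v')
      rw [ST9_act1 s.1 a.1 b.1 h, ST9_act1 s.1 a.1 b.1 h, hT, hT] at h1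
      exact mul_left_cancel₀ hc0 h1
    · have h1 := hpres (tvec v u) (tvec v' u')
      rw [ST9_act2 s.1 a.1 b.1 h, ST9_act2 s.1 a.1 b.1 h, hT, hT] at h1
      have h3 := mul_left_cancel₀ hc0 h1
      rw [h3]
      ring
  have hadet : a.1.det ≠ 0 := ((Matrix.isUnit_iff_isUnit_det a.1).mp a.isUnit).ne_zero
  have hbdet : b.1.det ≠ 0 := ((Matrix.isUnit_iff_isUnit_det b.1).mp b.isUnit).ne_zero
  have hA : ∀ x y, f₁ (a.1 *ᵥ x) (a.1 *ᵥ y) = f₁ x y :=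
    ST9_isom hq f₁ hb w ε hε hnorm horth a.1 hadet (f₁ (b.1 *ᵥ w 0) (b.1 *ᵥ w 0)) (fun x y => by
      have h := H1 x (w 0) y (w 0)
      rw [hnorm] at h
      exact h)
  have hB : ∀ x y, f₁ (b.1 *ᵥ x) (b.1 *ᵥ y) = f₁ x y :=
    ST9_isom hq f₁ hb w ε hε hnorm horth b.1 hbdet (f₁ (a.1 *ᵥ w 0) (a.1 *ᵥ w 0)) (fun x y => by
      have h := H1 (w 0) x (w 0) y
      rw [hnorm] at h
      linear_combination h)
  have himg : ∃ (k1 k2 : Fin 3) (δ : F), δ ≠ 0 ∧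
      s.1 *ᵥ tvec (w (idx9 i).1) (w (idx9 i).2) = δ • tvec (w k1) (w k2) := by
    rcases hab with h | h
    · obtain ⟨k1, δ1, hδ1, e1⟩ := ST9_frame f₁ w ε hnorm hfr a.1 hA (idx9 i).1
      obtain ⟨k2, δ2, hδ2, e2⟩ := ST9_frame f₁ w ε hnorm hfr b.1 hB (idx9 i).2
      exact ⟨k1, k2, δ1 * δ2, mul_ne_zero hδ1 hδ2, by
        rw [ST9_act1 s.1 a.1 b.1 h, e1, e2, ST9_tvec_smul]⟩
    · obtain ⟨k1, δ1, hδ1, e1⟩ := ST9_frame f₁ w ε hnorm hfr a.1 hA (idx9 i).2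
      obtain ⟨k2, δ2, hδ2, e2⟩ := ST9_frame f₁ w ε hnorm hfr b.1 hB (idx9 i).1
      exact ⟨k1, k2, δ1 * δ2, mul_ne_zero hδ1 hδ2, by
        rw [ST9_act2 s.1 a.1 b.1 h, e1, e2, ST9_tvec_smul]⟩
  obtain ⟨k1, k2, δ, hδ, himg⟩ := himg
  refine ⟨idx9.symm (k1, k2), ?_⟩
  have hmap : (frame9 e P w i).map (Matrix.toLin' g.1) =
      Submodule.span F {g.1 *ᵥ (P.1 *ᵥ (tvec (w (idx9 i).1) (w (idx9 i).2) ∘ e))} := by
    show (Submodule.span F {P.1 *ᵥ (tvec (w (idx9 i).1) (w (idx9 i).2) ∘ e)}).map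
      (Matrix.toLin' g.1) = _
    rw [Submodule.map_span, Set.image_singleton, Matrix.toLin'_apply]
  have hfr2 : frame9 e P w (idx9.symm (k1, k2)) =
      Submodule.span F {P.1 *ᵥ (tvec (w k1) (w k2) ∘ e)} := by
    show Submodule.span F {P.1 *ᵥ (tvec (w (idx9 (idx9.symm (k1, k2))).1)
      (w (idx9 (idx9.symm (k1, k2))).2) ∘ e)} = _
    rw [Equiv.apply_symm_apply]
  rw [hmap, hfr2, ST9_gact e P g s.1 hgs, himg]
  have e3 : P.1 *ᵥ ((δ • tvec (w k1) (w k2)) ∘ e) = δ • (P.1 *ᵥ (tvec (w k1) (w k2) ∘ e)) := by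
    rw [← Matrix.mulVec_smul]
    rfl
  rw [e3]
  exact Submodule.span_singleton_smul_eq (IsUnit.mk0 δ hδ) _

end Cfsg.Agent.Lib.Helper44.O9
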