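import Cfsg.Agent.Lib.Helper4.TPDefs

/-!
# TP-FTABS: the Frobenius-type lemma for an abelian `t'`-group acted on by a `t`-group

If `T` is a `t`-group whose commutators with `y` are central, `y ^ t` is central, and `T`
normalizes the abelian `t'`-group `U` so that the elements of `T` centralizing `y` centralize
`U` while the others have all their fixed points in the proper central subgroup `U0`, then
`|T : C_T(y)|` divides `t`.
-/

namespace Cfsg.Agent.Lib.Helper4.TP

universe u

/-- the norm of `v` under the cyclic group generated by `γ` (of order dividing `t`) -/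
noncomputable def ftabs_helper41_N {A : Type u} [CommGroup A] (t : ℕ) [NeZero t]
    (γ : Monoid.End A) (v : A) : A := ∏ a : ZMod t, (γ ^ a.val) v

theorem ftabs_helper41_N_fix {A : Type u} [CommGroup A] (t : ℕ) [NeZero t] [Fact (1 < t)]
    (γ : Monoid.End A) (hγ : γ ^ t = 1) (v : A) :
    γ (ftabs_helper41_N t γ v) = ftabs_helper41_N t γ v := by
  unfold ftabs_helper41_N
  rw [map_prod]
  have h1 : ∀ a : ZMod t, γ ((γ ^ a.val) v) = (γ ^ (a + 1).val) v := by
    intro a
    have h2 : (γ ^ (a + 1).val) = γ ^ (a.val + 1) := by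
      rw [ZMod.val_add, ZMod.val_one, ← pow_eq_pow_mod _ hγ]
    rw [h2, pow_succ']
    rfl
  simp_rw [h1]
  exact Fintype.prod_equiv (Equiv.addRight 1) _ _ (fun a => rfl)

theorem ftabs_helper41_abs {A : Type u} [CommGroup A] [Finite A] (t : ℕ) [Fact t.Prime]
    (hcop : (Nat.card A).Coprime t) (A0 : Subgroup A) (α β : Monoid.End A)
    (hc : Commute α β) (hβt : β ^ t = 1)
    (hα0 : ∀ v ∈ A0, α v = v) (hβfix : ∀ v, β v = v → v ∈ A0)
    (hγt : ∀ b : ZMod t, (α * β ^ b.val) ^ t = 1)
    (hγfix : ∀ b : ZMod t, ∀ v, (α * β ^ b.val) v = v → v ∈ A0) : ∀ v, v ∈ A0 := by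
  intro v
  haveI : NeZero t := ⟨(Fact.out : t.Prime).ne_zero⟩
  haveI : Fact (1 < t) := ⟨(Fact.out : t.Prime).one_lt⟩
  have hS : (∏ b : ZMod t, ftabs_helper41_N t (α * β ^ b.val) v) ∈ A0 := by
    apply Subgroup.prod_mem
    intro b _
    exact hγfix b _ (ftabs_helper41_N_fix t _ (hγt b) v)
  have hNβ : ftabs_helper41_N t β v ∈ A0 := hβfix _ (ftabs_helper41_N_fix t β hβt v)
  have hS2 : (∏ b : ZMod t, ftabs_helper41_N t (α * β ^ b.val) v) =
      ∏ a : ZMod t, (α ^ a.val) (∏ b : ZMod t, (β ^ (b.val * a.val)) v) := by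
    unfold ftabs_helper41_N
    rw [Finset.prod_comm]
    refine Finset.prod_congr rfl (fun a _ => ?_)
    rw [map_prod]
    refine Finset.prod_congr rfl (fun b _ => ?_)
    rw [(hc.pow_right _).mul_pow, ← pow_mul]
    rfl
  have hinner : ∀ a : ZMod t, a ≠ 0 →
      (∏ b : ZMod t, (β ^ (b.val * a.val)) v) = ftabs_helper41_N t β v := by
    intro a ha
    unfold ftabs_helper41_N
    have h1 : ∀ b : ZMod t, (β ^ (b.val * a.val)) v = (β ^ (b * a).val) v := by
      intro b
      rw [ZMod.val_mul, ← pow_eq_pow_mod _ hβt]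
    simp_rw [h1]
    exact Fintype.prod_equiv (Equiv.mulRight₀ a ha) _ _ (fun b => rfl)
  have hαpow : ∀ (n : ℕ) (w : A), w ∈ A0 → (α ^ n) w = w := by
    intro n
    induction n with
    | zero => intro w _; rfl
    | succ n ih =>
      intro w hw
      rw [pow_succ']
      show α ((α ^ n) w) = w
      rw [ih w hw, hα0 w hw]
  have hsplit : (∏ a : ZMod t, (α ^ a.val) (∏ b : ZMod t, (β ^ (b.val * a.val)) v)) =
      v ^ t * ∏ a ∈ Finset.univ.erase (0 : ZMod t), ftabs_helper41_N t β v := by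
    rw [← Finset.mul_prod_erase Finset.univ _ (Finset.mem_univ (0 : ZMod t))]
    congr 1
    · have h0 : (0 : ZMod t).val = 0 := ZMod.val_zero
      simp only [h0, mul_zero, pow_zero]
      show (∏ b : ZMod t, v) = v ^ t
      rw [Finset.prod_const, Finset.card_univ, ZMod.card]
    · refine Finset.prod_congr rfl (fun a ha => ?_)
      rw [hinner a (Finset.ne_of_mem_erase ha)]
      exact hαpow _ _ hNβ
  have hvt : v ^ t ∈ A0 := by
    have h2 : (∏ a ∈ Finset.univ.erase (0 : ZMod t), ftabs_helper41_N t β v) ∈ A0 :=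
      Subgroup.prod_mem _ (fun _ _ => hNβ)
    have h3 : v ^ t * ∏ a ∈ Finset.univ.erase (0 : ZMod t), ftabs_helper41_N t β v ∈ A0 := by
      rw [← hsplit, ← hS2]; exact hS
    exact (Subgroup.mul_mem_cancel_right _ h2).mp h3
  have hco : t.Coprime (orderOf v) :=
    (Nat.Coprime.coprime_dvd_left (orderOf_dvd_natCard v) hcop).symm
  obtain ⟨m, hm⟩ := exists_pow_eq_self_of_coprime hco
  rw [← hm]
  exact Subgroup.pow_mem _ hvt m

theorem ftabs : FTAbsStmt.{u} := by
  intro G _ _ t ht T U U0 y hT hc hyt hTU hUab hcop hU0U hU0Z hne hcen hfix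
  haveI : Fact t.Prime := ⟨ht⟩
  let φ : ↥T →* G :=
    { toFun := fun x => (x : G) * y * (x : G)⁻¹ * y⁻¹
      map_one' := by simp
      map_mul' := by
        intro a b
        have hb' := Subgroup.mem_center_iff.mp (hc b.1 b.2)
        show ((a : G) * (b : G)) * y * ((a : G) * (b : G))⁻¹ * y⁻¹ =
          ((a : G) * y * (a : G)⁻¹ * y⁻¹) * ((b : G) * y * (b : G)⁻¹ * y⁻¹)
        have e1 : ((a : G) * (b : G)) * y * ((a : G) * (b : G))⁻¹ * y⁻¹ =
            (a : G) * ((b : G) * y * (b : G)⁻¹ * y⁻¹) * (y * (a : G)⁻¹ * y⁻¹) := by group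
        rw [e1, hb' (a : G), hb' ((a : G) * y * (a : G)⁻¹ * y⁻¹)]
        group }
  have hφ : ∀ x : ↥T, φ x = (x : G) * y * (x : G)⁻¹ * y⁻¹ := fun x => rfl
  have hker : ∀ x : ↥T, φ x = 1 ↔ (x : G) ∈ Cen y := by
    intro x
    rw [hφ, Subgroup.mem_centralizer_iff]
    constructor
    · intro h z hz
      rw [Set.mem_singleton_iff] at hz
      rw [hz]
      have h2 : (x : G) * y * (x : G)⁻¹ * y⁻¹ * (y * (x : G)) = y * (x : G) := by
        rw [h, one_mul]
      rw [← h2]; group
    · intro h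
      have h2 := h y (Set.mem_singleton y)
      rw [← h2]; group
  have hexp : ∀ x : ↥T, (φ x) ^ t = 1 := by
    intro x
    have hz : φ x ∈ Subgroup.center G := hc x.1 x.2
    have hcomm : Commute (φ x) y := (Subgroup.mem_center_iff.mp hz y).symm
    have h1 : (x : G) * y * (x : G)⁻¹ = φ x * y := by
      rw [hφ]; group
    have h2 : ((x : G) * y * (x : G)⁻¹) ^ t = y ^ t := by
      rw [conj_pow]
      have h3 := Subgroup.mem_center_iff.mp hyt (x : G)
      rw [h3]; group
    rw [h1, hcomm.mul_pow] at h2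
    exact mul_right_cancel (h2.trans (one_mul _).symm)
  have hidx : (Cen y).relIndex T = Nat.card φ.range := by
    have h1 : (Cen y).subgroupOf T = φ.ker := by
      ext x
      rw [Subgroup.mem_subgroupOf, MonoidHom.mem_ker, hker]
    rw [Subgroup.relIndex, h1, Subgroup.index_ker]
  rw [hidx]
  by_contra hnd
  have h1 : ∃ z2 ∈ φ.range, z2 ≠ 1 := by
    by_contra hno
    push_neg at hno
    have h2 : φ.range = ⊥ := by
      rw [eq_bot_iff]; intro z hz; rw [Subgroup.mem_bot]; exact hno z hz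
    apply hnd
    rw [h2, Subgroup.card_bot]; exact one_dvd _
  obtain ⟨z2, hz2, hz2ne⟩ := h1
  have h2 : ∃ z1 ∈ φ.range, z1 ∉ Subgroup.zpowers z2 := by
    by_contra hno
    push_neg at hno
    have h3 : φ.range = Subgroup.zpowers z2 := by
      apply le_antisymm
      · intro z hz; exact hno z hz
      · rw [Subgroup.zpowers_le]; exact hz2
    apply hnd
    rw [h3, Nat.card_zpowers]
    obtain ⟨h, rfl⟩ := hz2
    exact orderOf_dvd_of_pow_eq_one (hexp h)
  obtain ⟨z1, hz1, hz1n⟩ := h2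
  obtain ⟨g, rfl⟩ := hz1
  obtain ⟨h, rfl⟩ := hz2
  letI : CommGroup ↥U :=
    { (inferInstance : Group ↥U) with
      mul_comm := fun a b => Subtype.ext (hUab a.1 a.2 b.1 b.2) }
  have hnorm : ∀ x : ↥T, ∀ v : ↥U, (x : G) * (v : G) * (x : G)⁻¹ ∈ U := fun x v =>
    (Subgroup.mem_normalizer_iff.mp (hTU x.2) v.1).mp v.2
  let c : ↥T →* Monoid.End ↥U :=
    { toFun := fun x =>
        { toFun := fun v => ⟨(x : G) * (v : G) * (x : G)⁻¹, hnorm x v⟩
          map_one' := by
            apply Subtype.ext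
            show (x : G) * (1 : G) * (x : G)⁻¹ = 1
            group
          map_mul' := by
            intro v w
            apply Subtype.ext
            show (x : G) * ((v : G) * (w : G)) * (x : G)⁻¹ =
              ((x : G) * (v : G) * (x : G)⁻¹) * ((x : G) * (w : G) * (x : G)⁻¹)
            group }
      map_one' := by
        apply MonoidHom.ext; intro v; apply Subtype.ext
        show (1 : G) * (v : G) * (1 : G)⁻¹ = (v : G)
        group
      map_mul' := by
        intro a b
        apply MonoidHom.ext; intro v; apply Subtype.ext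
        show ((a : G) * (b : G)) * (v : G) * ((a : G) * (b : G))⁻¹ =
          (a : G) * ((b : G) * (v : G) * (b : G)⁻¹) * (a : G)⁻¹
        group }
  have hcv : ∀ (x : ↥T) (v : ↥U), (((c x) v : ↥U) : G) = (x : G) * (v : G) * (x : G)⁻¹ :=
    fun x v => rfl
  have hc1 : ∀ x : ↥T, φ x = 1 → c x = 1 := by
    intro x hx
    have hx' := (hker x).mp hx
    apply MonoidHom.ext; intro v; apply Subtype.ext
    show (x : G) * (v : G) * (x : G)⁻¹ = (v : G)
    rw [hcen x.1 x.2 hx' v.1 v.2]; group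
  have hc2 : ∀ x x' : ↥T, φ x = φ x' → c x = c x' := by
    intro x x' hxx
    have h3 : φ (x'⁻¹ * x) = 1 := by rw [map_mul, map_inv, hxx, inv_mul_cancel]
    have h4 : c x = c x' * c (x'⁻¹ * x) := by rw [← map_mul, mul_inv_cancel_left]
    rw [h4, hc1 _ h3, mul_one]
  have hcomm : Commute (c g) (c h) := by
    show c g * c h = c h * c g
    rw [← map_mul, ← map_mul]
    apply hc2
    rw [map_mul, map_mul]
    exact Subgroup.mem_center_iff.mp (hc h.1 h.2) (φ g)
  have hpow1 : ∀ x : ↥T, (c x) ^ t = 1 := fun x => by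
    rw [← map_pow]; exact hc1 _ (by rw [map_pow]; exact hexp x)
  have hα0 : ∀ v ∈ U0.subgroupOf U, (c g) v = v := by
    intro v hv
    apply Subtype.ext
    rw [hcv]
    have h3 := Subgroup.mem_center_iff.mp (hU0Z (Subgroup.mem_subgroupOf.mp hv)) (g : G)
    rw [h3]; group
  have hfixgen : ∀ x : ↥T, φ x ≠ 1 → ∀ v : ↥U, (c x) v = v → v ∈ U0.subgroupOf U := by
    intro x hx v hv
    rw [Subgroup.mem_subgroupOf]
    apply hfix x.1 x.2 (fun h' => hx ((hker x).mpr h')) v.1 v.2
    have h4 : (x : G) * (v : G) * (x : G)⁻¹ = (v : G) := by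
      rw [← hcv, hv]
    calc (x : G) * (v : G) = (x : G) * (v : G) * (x : G)⁻¹ * (x : G) := by group
      _ = (v : G) * (x : G) := by rw [h4]
  have hne1 : ∀ b : ZMod t, φ (g * h ^ b.val) ≠ 1 := by
    intro b hb
    rw [map_mul, map_pow] at hb
    apply hz1n
    have h3 : φ g = ((φ h) ^ b.val)⁻¹ := eq_inv_of_mul_eq_one_left hb
    rw [h3]
    exact Subgroup.inv_mem _ (Subgroup.pow_mem _ (Subgroup.mem_zpowers _) _)
  have hγeq : ∀ b : ZMod t, c g * c h ^ b.val = c (g * h ^ b.val) := fun b => by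
    rw [map_mul, map_pow]
  have hall : ∀ v : ↥U, v ∈ U0.subgroupOf U :=
    ftabs_helper41_abs t hcop (U0.subgroupOf U) (c g) (c h) hcomm (hpow1 h) hα0
      (hfixgen h hz2ne)
      (fun b => by rw [hγeq]; exact hpow1 _)
      (fun b v hv => hfixgen _ (hne1 b) v (by rw [← hγeq]; exact hv))
  apply hne
  apply le_antisymm hU0U
  intro u hu
  exact Subgroup.mem_subgroupOf.mp (hall ⟨u, hu⟩)

end Cfsg.Agent.Lib.Helper4.TP
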