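import Mathlib
import Cfsg.Prelude.Def_Local
import Cfsg.Agent.Lib.Helper66.Layer
import Cfsg.Agent.Lib.Helper41.PSub
import Cfsg.Agent.Lib.Helper30.AxB

/-!
# Thompson–Wielandt setting: foundation

Relative `p`-cores `rp p X` (the subgroup `O_p(X)` of `G`), the elementwise description of
cores, and the abstract `Setting` in which the Thompson–Wielandt argument is carried out.
-/

set_option autoImplicit false

namespace Cfsg.Agent.Lib.Helper41.TW

open Cfsg
open scoped commutatorElement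

variable {G : Type*} [Group G]

/-! ### Normalizer helpers -/

theorem conj_mem {N : Subgroup G} {g n : G} (hg : g ∈ Subgroup.normalizer (N : Set G))
    (hn : n ∈ N) : g * n * g⁻¹ ∈ N :=
  (Subgroup.mem_normalizer_iff.mp hg n).mp hn

theorem conj_mem' {N : Subgroup G} {g n : G} (hg : g ∈ Subgroup.normalizer (N : Set G))
    (hn : n ∈ N) : g⁻¹ * n * g ∈ N := by
  have := conj_mem (Subgroup.inv_mem _ hg) hn
  simpa using this

/-- A subgroup `K` normalizes `N` as soon as all `K`-conjugates of elements of `N` lie in `N`. -/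
theorem le_normalizer_of_conj {K N : Subgroup G}
    (h : ∀ k ∈ K, ∀ n ∈ N, k * n * k⁻¹ ∈ N) : K ≤ Subgroup.normalizer (N : Set G) := by
  intro k hk
  rw [Subgroup.mem_normalizer_iff]
  intro n
  refine ⟨fun hn => h k hk n hn, fun hn => ?_⟩
  have := h k⁻¹ (K.inv_mem hk) _ hn
  simpa [mul_assoc] using this

/-- The normalizer of `N` normalizes the centralizer of `N`. -/
theorem normalizer_le_normalizer_centralizer (N : Subgroup G) :
    Subgroup.normalizer (N : Set G) ≤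
      Subgroup.normalizer ((Subgroup.centralizer (N : Set G) : Subgroup G) : Set G) := by
  apply le_normalizer_of_conj
  intro k hk c hc
  rw [Subgroup.mem_centralizer_iff] at hc ⊢
  intro n hn
  have h1 := hc _ (conj_mem' hk hn)
  calc n * (k * c * k⁻¹) = k * ((k⁻¹ * n * k) * c) * k⁻¹ := by group
    _ = k * (c * (k⁻¹ * n * k)) * k⁻¹ := by rw [h1]
    _ = k * c * k⁻¹ * n := by group

theorem inf_le_normalizer_inf {K A B : Subgroup G} (hA : K ≤ Subgroup.normalizer (A : Set G))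
    (hB : K ≤ Subgroup.normalizer (B : Set G)) :
    K ≤ Subgroup.normalizer ((A ⊓ B : Subgroup G) : Set G) := by
  apply le_normalizer_of_conj
  intro k hk n hn
  exact ⟨conj_mem (hA hk) hn.1, conj_mem (hB hk) hn.2⟩

theorem sup_le_normalizer {K L A : Subgroup G} (hK : K ≤ Subgroup.normalizer (A : Set G))
    (hL : L ≤ Subgroup.normalizer (A : Set G)) :
    K ⊔ L ≤ Subgroup.normalizer (A : Set G) := sup_le hK hL

/-- Conjugation by an element of the normalizer fixes the subgroup. -/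
theorem map_conj_eq_of_mem_normalizer {N : Subgroup G} {g : G}
    (hg : g ∈ Subgroup.normalizer (N : Set G)) : N.map (MulAut.conj g).toMonoidHom = N :=
  Subgroup.mem_normalizer_iff_map_conj_eq.mp hg

/-- Commutator of two subgroups that normalize each other and meet trivially. -/
theorem commutator_eq_bot_of_disjoint {A B : Subgroup G}
    (hA : A ≤ Subgroup.normalizer (B : Set G)) (hB : B ≤ Subgroup.normalizer (A : Set G))
    (h : A ⊓ B = ⊥) : ⁅A, B⁆ = ⊥ := by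
  rw [eq_bot_iff, Subgroup.commutator_le]
  intro a ha b hb
  rw [← h]
  refine ⟨?_, ?_⟩
  · -- a * (b a⁻¹ b⁻¹)
    have h1 : b * a⁻¹ * b⁻¹ ∈ A := conj_mem (hB hb) (A.inv_mem ha)
    have : ⁅a, b⁆ = a * (b * a⁻¹ * b⁻¹) := by rw [commutatorElement_def]; group
    rw [this]; exact A.mul_mem ha h1
  · have h1 : a * b * a⁻¹ ∈ B := conj_mem (hA ha) hb
    have : ⁅a, b⁆ = (a * b * a⁻¹) * b⁻¹ := by rw [commutatorElement_def]
    rw [this]; exact B.mul_mem h1 (B.inv_mem hb)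

theorem le_centralizer_of_disjoint {A B : Subgroup G}
    (hA : A ≤ Subgroup.normalizer (B : Set G)) (hB : B ≤ Subgroup.normalizer (A : Set G))
    (h : A ⊓ B = ⊥) : A ≤ Subgroup.centralizer (B : Set G) := by
  exact Subgroup.commutator_eq_bot_iff_le_centralizer.mp (commutator_eq_bot_of_disjoint hA hB h)

/-- A `p`-group and a `q`-group, `p ≠ q` primes, meet trivially. -/
theorem inf_eq_bot_of_pq {p q : ℕ} (hp : p.Prime) (hq : q.Prime) (hpq : p ≠ q)
    {A B : Subgroup G} (hA : IsPGroup p A) (hB : IsPGroup q B) : A ⊓ B = ⊥ := by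
  have : Fact p.Prime := ⟨hp⟩
  have : Fact q.Prime := ⟨hq⟩
  exact disjoint_iff.mp (IsPGroup.disjoint_of_ne p q hpq A B hA hB)

/-! ### The relative `p`-core -/

/-- The relative `p`-core `O_p(X)` of a subgroup `X`, as a subgroup of `G`. -/
def rp (p : ℕ) (X : Subgroup G) : Subgroup G := (pCore p ↥X).map X.subtype

theorem rp_le (p : ℕ) (X : Subgroup G) : rp p X ≤ X := Subgroup.map_subtype_le _

theorem rp_isPGroup (p : ℕ) (X : Subgroup G) : IsPGroup p ↥(rp p X) :=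
  (Cfsg.Agent.Lib.Helper30.pCore_isPGroup p).map X.subtype

/-- Any `p`-subgroup of `X` normalized by `X` lies in `O_p(X)`. -/
theorem le_rp {p : ℕ} {N X : Subgroup G} (hNX : N ≤ X)
    (hn : X ≤ Subgroup.normalizer (N : Set G)) (hp : IsPGroup p N) : N ≤ rp p X := by
  have h1 : (N.subgroupOf X).Normal := Subgroup.normal_subgroupOf_of_le_normalizer hn
  have h2 : IsPGroup p (N.subgroupOf X) := hp.comap_subtype
  have h3 : N.subgroupOf X ≤ pCore p ↥X := le_sSup ⟨h1, h2⟩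
  have h4 := Subgroup.map_mono (f := X.subtype) h3
  rwa [Subgroup.map_subgroupOf_eq_of_le hNX] at h4

/-- `O_p(X)` is normalized by `X`. -/
theorem le_normalizer_rp (p : ℕ) (X : Subgroup G) :
    X ≤ Subgroup.normalizer ((rp p X : Subgroup G) : Set G) := by
  have : (pCore p ↥X).Characteristic := Cfsg.Agent.Lib.Helper30.pCore_characteristic p
  have h1 := Subgroup.le_normalizer_map (H := pCore p ↥X) X.subtype
  have h2 : Subgroup.normalizer ((pCore p ↥X : Subgroup X) : Set X) = ⊤ :=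
    Subgroup.normalizer_eq_top_iff.mpr inferInstance
  rw [h2, ← MonoidHom.range_eq_map, Subgroup.range_subtype] at h1
  exact h1

/-- Conjugation transports relative `p`-cores (one inclusion). -/
theorem map_conj_rp_le (p : ℕ) (X : Subgroup G) (g : G) :
    (rp p X).map (MulAut.conj g).toMonoidHom ≤ rp p (X.map (MulAut.conj g).toMonoidHom) := by
  apply le_rp
  · exact Subgroup.map_mono (rp_le p X)
  · apply le_normalizer_of_conj
    rintro k hk n hn
    rw [Cfsg.Agent.Lib.Helper41.mem_map_conj_iff] at hk hn ⊢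
    have := conj_mem (le_normalizer_rp p X hk) hn
    have e : g⁻¹ * (k * n * k⁻¹) * g = g⁻¹ * k * g * (g⁻¹ * n * g) * (g⁻¹ * k * g)⁻¹ := by group
    rw [e]; exact this
  · exact (rp_isPGroup p X).map _

theorem map_conj_rp (p : ℕ) (X : Subgroup G) (g : G) :
    (rp p X).map (MulAut.conj g).toMonoidHom = rp p (X.map (MulAut.conj g).toMonoidHom) := by
  apply le_antisymm (map_conj_rp_le p X g)
  have h1 := map_conj_rp_le p (X.map (MulAut.conj g).toMonoidHom) g⁻¹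
  have h2 : (X.map (MulAut.conj g).toMonoidHom).map (MulAut.conj g⁻¹).toMonoidHom = X := by
    ext x
    simp only [Cfsg.Agent.Lib.Helper41.mem_map_conj_iff]
    simp [mul_assoc]
  rw [h2] at h1
  intro x hx
  have h3 := h1 (Subgroup.mem_map_of_mem (MulAut.conj g⁻¹).toMonoidHom hx)
  rw [Cfsg.Agent.Lib.Helper41.mem_map_conj_iff]
  simpa using h3

/-- The normalizer of `X` normalizes `O_p(X)`. -/
theorem normalizer_le_normalizer_rp (p : ℕ) (X : Subgroup G) :
    Subgroup.normalizer (X : Set G) ≤ Subgroup.normalizer ((rp p X : Subgroup G) : Set G) := by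
  intro g hg
  rw [Subgroup.mem_normalizer_iff_map_conj_eq]
  have h := map_conj_rp p X g
  rw [map_conj_eq_of_mem_normalizer hg] at h
  exact h

/-- Whatever normalizes `X` normalizes `O_p(X)`. -/
theorem le_normalizer_rp_of_le {p : ℕ} {K X : Subgroup G}
    (h : K ≤ Subgroup.normalizer (X : Set G)) :
    K ≤ Subgroup.normalizer ((rp p X : Subgroup G) : Set G) :=
  h.trans (normalizer_le_normalizer_rp p X)

/-- Monotonicity of relative `p`-cores along normal inclusions. -/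
theorem rp_mono {p : ℕ} {N M : Subgroup G} (hNM : N ≤ M)
    (hn : M ≤ Subgroup.normalizer (N : Set G)) : rp p N ≤ rp p M :=
  le_rp ((rp_le p N).trans hNM) (le_normalizer_rp_of_le hn) (rp_isPGroup p N)

theorem card_rp_map_conj [Finite G] (p : ℕ) (X : Subgroup G) (g : G) :
    Nat.card (rp p (X.map (MulAut.conj g).toMonoidHom)) = Nat.card (rp p X) := by
  rw [← map_conj_rp]
  exact (Nat.card_congr
    ((rp p X).equivMapOfInjective _ (MulAut.conj g).injective).toEquiv).symm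

/-- `rp p X = ⊥` iff the `p`-core of the group `↥X` is trivial. -/
theorem rp_eq_bot_iff (p : ℕ) (X : Subgroup G) : rp p X = ⊥ ↔ pCore p ↥X = ⊥ := by
  unfold rp
  rw [Subgroup.map_eq_bot_iff_of_injective _ X.subtype_injective]

/-! ### Cores, elementwise -/

theorem mem_core_iff (X H : Subgroup G) (b : G) :
    b ∈ ((H.subgroupOf X).normalCore.map X.subtype) ↔ b ∈ X ∧ ∀ x ∈ X, x * b * x⁻¹ ∈ H := by
  constructor
  · rintro ⟨⟨c, hc⟩, hc', rfl⟩
    refine ⟨hc, fun x hx => ?_⟩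
    have := hc' ⟨x, hx⟩
    exact Subgroup.mem_subgroupOf.mp this
  · rintro ⟨hb, h⟩
    refine ⟨⟨b, hb⟩, ?_, rfl⟩
    intro x
    exact Subgroup.mem_subgroupOf.mpr (h x x.2)

/-! ### The setting -/

/-- The abstract Thompson–Wielandt setting: `X`, `Y` are "primitive" subgroups (the normalizer
of every nontrivial subgroup of `X` normalized by `X` lies in `X`), neither contains the other,
`A1 = core_X(X ∩ Y)`, `B1 = core_Y(X ∩ Y)`, `A2 = core_X(A1 ∩ B1)`, `B2 = core_Y(A1 ∩ B1)`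
(elementwise), and the relative `p`-cores of `X` and `Y` have the same order. -/
structure Setting (X Y A1 B1 A2 B2 : Subgroup G) : Prop where
  primX : ∀ N : Subgroup G, N ≤ X → X ≤ Subgroup.normalizer (N : Set G) → N ≠ ⊥ →
    Subgroup.normalizer (N : Set G) ≤ X
  primY : ∀ N : Subgroup G, N ≤ Y → Y ≤ Subgroup.normalizer (N : Set G) → N ≠ ⊥ →
    Subgroup.normalizer (N : Set G) ≤ Y
  nXY : ¬ X ≤ Y
  nYX : ¬ Y ≤ X
  mA1 : ∀ b, b ∈ A1 ↔ b ∈ X ∧ ∀ x ∈ X, x * b * x⁻¹ ∈ Y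
  mB1 : ∀ b, b ∈ B1 ↔ b ∈ Y ∧ ∀ y ∈ Y, y * b * y⁻¹ ∈ X
  mA2 : ∀ b, b ∈ A2 ↔ b ∈ X ∧ ∀ x ∈ X, x * b * x⁻¹ ∈ A1 ∧ x * b * x⁻¹ ∈ B1
  mB2 : ∀ b, b ∈ B2 ↔ b ∈ Y ∧ ∀ y ∈ Y, y * b * y⁻¹ ∈ B1 ∧ y * b * y⁻¹ ∈ A1
  cardP : ∀ p : ℕ, Nat.card (rp p X) = Nat.card (rp p Y)

namespace Setting

variable {X Y A1 B1 A2 B2 : Subgroup G}

/-- The setting is symmetric. -/
theorem symm (S : Setting X Y A1 B1 A2 B2) : Setting Y X B1 A1 B2 A2 :=
  ⟨S.primY, S.primX, S.nYX, S.nXY, S.mB1, S.mA1, S.mB2, S.mA2, fun p => (S.cardP p).symm⟩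

section
variable (S : Setting X Y A1 B1 A2 B2)
include S

theorem A1_le_X : A1 ≤ X := fun b hb => ((S.mA1 b).mp hb).1

theorem A1_le_Y : A1 ≤ Y := fun b hb => by
  have := ((S.mA1 b).mp hb).2 1 X.one_mem
  simpa using this

theorem X_norm_A1 : X ≤ Subgroup.normalizer (A1 : Set G) := by
  apply le_normalizer_of_conj
  intro k hk n hn
  rw [S.mA1] at hn ⊢
  refine ⟨X.mul_mem (X.mul_mem hk hn.1) (X.inv_mem hk), fun x hx => ?_⟩
  have := hn.2 (x * k) (X.mul_mem hx hk)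
  have e : x * (k * n * k⁻¹) * x⁻¹ = x * k * n * (x * k)⁻¹ := by group
  rw [e]; exact this

/-- `A1` is the largest subgroup of `X ∩ Y` normalized by `X`. -/
theorem le_A1 {N : Subgroup G} (hX : N ≤ X) (hY : N ≤ Y)
    (hn : X ≤ Subgroup.normalizer (N : Set G)) : N ≤ A1 := fun b hb =>
  (S.mA1 b).mpr ⟨hX hb, fun _ hx => hY (conj_mem (hn hx) hb)⟩

theorem A2_le_A1 : A2 ≤ A1 := fun b hb => by
  have := (((S.mA2 b).mp hb).2 1 X.one_mem).1
  simpa using this

theorem A2_le_B1 : A2 ≤ B1 := fun b hb => by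
  have := (((S.mA2 b).mp hb).2 1 X.one_mem).2
  simpa using this

theorem A2_le_X : A2 ≤ X := S.A2_le_A1.trans S.A1_le_X

theorem A2_le_Y : A2 ≤ Y := S.A2_le_A1.trans S.A1_le_Y

theorem X_norm_A2 : X ≤ Subgroup.normalizer (A2 : Set G) := by
  apply le_normalizer_of_conj
  intro k hk n hn
  rw [S.mA2] at hn ⊢
  refine ⟨X.mul_mem (X.mul_mem hk hn.1) (X.inv_mem hk), fun x hx => ?_⟩
  have := hn.2 (x * k) (X.mul_mem hx hk)
  have e : x * (k * n * k⁻¹) * x⁻¹ = x * k * n * (x * k)⁻¹ := by group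
  rw [e]; exact this

/-- `A2` is the largest subgroup of `A1 ∩ B1` normalized by `X`. -/
theorem le_A2 {N : Subgroup G} (hA : N ≤ A1) (hB : N ≤ B1)
    (hn : X ≤ Subgroup.normalizer (N : Set G)) : N ≤ A2 := fun b hb =>
  (S.mA2 b).mpr ⟨S.A1_le_X (hA hb), fun _ hx =>
    ⟨hA (conj_mem (hn hx) hb), hB (conj_mem (hn hx) hb)⟩⟩

theorem B1_le_Y : B1 ≤ Y := S.symm.A1_le_X
theorem B1_le_X : B1 ≤ X := S.symm.A1_le_Y
theorem Y_norm_B1 : Y ≤ Subgroup.normalizer (B1 : Set G) := S.symm.X_norm_A1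
theorem le_B1 {N : Subgroup G} (hY : N ≤ Y) (hX : N ≤ X)
    (hn : Y ≤ Subgroup.normalizer (N : Set G)) : N ≤ B1 := S.symm.le_A1 hY hX hn
theorem B2_le_B1 : B2 ≤ B1 := S.symm.A2_le_A1
theorem B2_le_A1 : B2 ≤ A1 := S.symm.A2_le_B1
theorem B2_le_Y : B2 ≤ Y := S.symm.A2_le_X
theorem B2_le_X : B2 ≤ X := S.symm.A2_le_Y
theorem Y_norm_B2 : Y ≤ Subgroup.normalizer (B2 : Set G) := S.symm.X_norm_A2
theorem le_B2 {N : Subgroup G} (hB : N ≤ B1) (hA : N ≤ A1)
    (hn : Y ≤ Subgroup.normalizer (N : Set G)) : N ≤ B2 := S.symm.le_A2 hB hA hn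

/-- `B1 ≤ X` normalizes `A2`. -/
theorem B1_norm_A2 : B1 ≤ Subgroup.normalizer (A2 : Set G) := S.B1_le_X.trans S.X_norm_A2
theorem A1_norm_B2 : A1 ≤ Subgroup.normalizer (B2 : Set G) := S.A1_le_Y.trans S.Y_norm_B2
theorem A1_norm_B1 : A1 ≤ Subgroup.normalizer (B1 : Set G) := S.A1_le_Y.trans S.Y_norm_B1
theorem B1_norm_A1 : B1 ≤ Subgroup.normalizer (A1 : Set G) := S.B1_le_X.trans S.X_norm_A1

/-- No nontrivial subgroup of `X` is normalized by both `X` and `Y`. -/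
theorem not_both {N : Subgroup G} (hX : N ≤ X) (hnX : X ≤ Subgroup.normalizer (N : Set G))
    (hnY : Y ≤ Subgroup.normalizer (N : Set G)) : N = ⊥ := by
  by_contra hne
  exact S.nYX (hnY.trans (S.primX N hX hnX hne))

/-- The centralizer of a nontrivial subgroup of `X` normalized by `X` lies in `X`. -/
theorem centralizer_le_X {N : Subgroup G} (hX : N ≤ X)
    (hnX : X ≤ Subgroup.normalizer (N : Set G)) (hne : N ≠ ⊥) :
    Subgroup.centralizer (N : Set G) ≤ X :=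
  (Subgroup.centralizer_le_normalizer _).trans (S.primX N hX hnX hne)

theorem centralizer_le_Y {N : Subgroup G} (hY : N ≤ Y)
    (hnY : Y ≤ Subgroup.normalizer (N : Set G)) (hne : N ≠ ⊥) :
    Subgroup.centralizer (N : Set G) ≤ Y := S.symm.centralizer_le_X hY hnY hne

/-- Chains of relative `p`-cores. -/
theorem rp_A2_le_rp_B1 (p : ℕ) : rp p A2 ≤ rp p B1 := rp_mono S.A2_le_B1 S.B1_norm_A2
theorem rp_B1_le_rp_Y (p : ℕ) : rp p B1 ≤ rp p Y := rp_mono S.B1_le_Y S.Y_norm_B1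
theorem rp_A2_le_rp_Y (p : ℕ) : rp p A2 ≤ rp p Y := (S.rp_A2_le_rp_B1 p).trans (S.rp_B1_le_rp_Y p)
theorem rp_A2_le_rp_X (p : ℕ) : rp p A2 ≤ rp p X := rp_mono S.A2_le_X S.X_norm_A2
theorem rp_A1_le_rp_X (p : ℕ) : rp p A1 ≤ rp p X := rp_mono S.A1_le_X S.X_norm_A1
theorem rp_B2_le_rp_A1 (p : ℕ) : rp p B2 ≤ rp p A1 := S.symm.rp_A2_le_rp_B1 p
theorem rp_B2_le_rp_X (p : ℕ) : rp p B2 ≤ rp p X := S.symm.rp_A2_le_rp_Y p
theorem rp_B2_le_rp_Y (p : ℕ) : rp p B2 ≤ rp p Y := S.symm.rp_A2_le_rp_X p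
theorem rp_B1_le_rp_Y' (p : ℕ) : rp p B1 ≤ rp p Y := S.symm.rp_A1_le_rp_X p

/-- `X` normalizes `O_p(A2)`, `Y` normalizes `O_p(B2)`, etc. -/
theorem X_norm_rp_A2 (p : ℕ) : X ≤ Subgroup.normalizer ((rp p A2 : Subgroup G) : Set G) :=
  le_normalizer_rp_of_le S.X_norm_A2
theorem Y_norm_rp_B2 (p : ℕ) : Y ≤ Subgroup.normalizer ((rp p B2 : Subgroup G) : Set G) :=
  le_normalizer_rp_of_le S.Y_norm_B2
theorem X_norm_rp_A1 (p : ℕ) : X ≤ Subgroup.normalizer ((rp p A1 : Subgroup G) : Set G) :=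
  le_normalizer_rp_of_le S.X_norm_A1
theorem Y_norm_rp_B1 (p : ℕ) : Y ≤ Subgroup.normalizer ((rp p B1 : Subgroup G) : Set G) :=
  le_normalizer_rp_of_le S.Y_norm_B1

/-- If `O_p(A2) ≠ 1` its centralizer lies in `X`. -/
theorem centralizer_rp_A2_le (p : ℕ) (h : rp p A2 ≠ ⊥) :
    Subgroup.centralizer ((rp p A2 : Subgroup G) : Set G) ≤ X :=
  S.centralizer_le_X ((rp_le p A2).trans S.A2_le_X) (S.X_norm_rp_A2 p) h

theorem centralizer_rp_B2_le (p : ℕ) (h : rp p B2 ≠ ⊥) :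
    Subgroup.centralizer ((rp p B2 : Subgroup G) : Set G) ≤ Y :=
  S.symm.centralizer_rp_A2_le p h

end

end Setting

end Cfsg.Agent.Lib.Helper41.TW
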