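import Cfsg.Agent.Lib.Helper41.TW1

/-!
# Thompson–Wielandt setting: relative components

`RC J X`: `J` is a component of the subgroup `X` (a nontrivial quasisimple subnormal subgroup
of `X`), phrased internally in the subgroup lattice of `G`.
-/

set_option autoImplicit false

namespace Cfsg.Agent.Lib.Helper41.TW

open Cfsg Cfsg.Agent.Lib.Helper66

variable {G : Type*} [Group G]

/-- Transitivity of relative subnormality. -/
theorem sn_trans {J N M : Subgroup G} (hJN : J ≤ N) (hNM : N ≤ M) (h1 : SN J N) (h2 : SN N M) :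
    SN J M := by
  unfold SN at h1 h2 ⊢
  have hle : J.subgroupOf M ≤ N.subgroupOf M := fun x hx =>
    Subgroup.mem_subgroupOf.mpr (hJN (Subgroup.mem_subgroupOf.mp hx))
  refine Subgroup.IsSubnormal.trans hle ?_ h2
  have h3 := h1.comap (Subgroup.subgroupOfEquivOfLe hNM).toMonoidHom
  have h4 : (J.subgroupOf N).comap (Subgroup.subgroupOfEquivOfLe hNM).toMonoidHom =
      (J.subgroupOf M).subgroupOf (N.subgroupOf M) := by
    ext x
    simp only [Subgroup.mem_comap, Subgroup.mem_subgroupOf]
    rfl
  rwa [h4] at h3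

/-- `J` is a component of `X`: a nontrivial quasisimple (internally) subnormal subgroup. -/
structure RC (J X : Subgroup G) : Prop where
  le : J ≤ X
  sn : SN J X
  qs : QS J
  ne : J ≠ ⊥

namespace RC

variable {J J' X S N M H P : Subgroup G}

theorem perfect (h : RC J X) : ⁅J, J⁆ = J := h.qs.1

theorem isQuasisimple (h : RC J X) : IsQuasisimple ↥J := isQuasisimple_of_qs h.qs h.ne

theorem not_solvable (h : RC J X) : ¬ Group.IsSolvable ↥J :=
  Cfsg.Agent.Lib.Helper30.qs_not_solvable h.isQuasisimple

/-- A component of `X` is a component of every intermediate subgroup. -/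
theorem of_le (h : RC J X) (hJS : J ≤ S) (hSX : S ≤ X) : RC J S :=
  ⟨hJS, h.sn.of_le hSX, h.qs, h.ne⟩

/-- A component of a normal subgroup `N` of `M` is a component of `M`. -/
theorem of_normal (h : RC J N) (hNM : N ≤ M) (hn : M ≤ Subgroup.normalizer (N : Set G)) :
    RC J M :=
  ⟨h.le.trans hNM, sn_trans h.le hNM h.sn (sn_of_normalizer hn), h.qs, h.ne⟩

/-- The component lemma, relative form. -/
theorem le_or_comm [Finite G] (h : RC J X) (hHX : H ≤ X) (hH : SN H X) :
    J ≤ H ∨ ⁅J, H⁆ = ⊥ :=
  comp_lemma_aux _ X J H le_rfl h.le hHX h.sn hH h.qs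

theorem le_or_comm_of_normal [Finite G] (h : RC J X) (hHX : H ≤ X)
    (hn : X ≤ Subgroup.normalizer (H : Set G)) : J ≤ H ∨ ⁅J, H⁆ = ⊥ :=
  h.le_or_comm hHX (sn_of_normalizer hn)

/-- Two components of `X` are equal or commute. -/
theorem eq_or_comm [Finite G] (h : RC J X) (h' : RC J' X) : J = J' ∨ ⁅J, J'⁆ = ⊥ := by
  rcases h.le_or_comm h'.le h'.sn with a | a
  · rcases h'.le_or_comm h.le h.sn with b | b
    · exact Or.inl (le_antisymm a b)
    · right; rw [Subgroup.commutator_comm]; exact b
  · exact Or.inr a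

/-- A component centralizes every solvable normal subgroup. -/
theorem comm_solvable [Finite G] (h : RC J X) (hHX : H ≤ X)
    (hn : X ≤ Subgroup.normalizer (H : Set G)) (hs : Group.IsSolvable ↥H) : ⁅J, H⁆ = ⊥ := by
  rcases h.le_or_comm_of_normal hHX hn with a | a
  · exfalso
    apply h.not_solvable
    exact Group.isSolvable_of_isSolvable_injective (Subgroup.inclusion_injective a)
  · exact a

/-- A component centralizes every normal `p`-subgroup. -/
theorem comm_pgroup [Finite G] (h : RC J X) {p : ℕ} (hp : p.Prime) (hPX : P ≤ X)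
    (hn : X ≤ Subgroup.normalizer (P : Set G)) (hP : IsPGroup p P) : ⁅J, P⁆ = ⊥ := by
  have : Fact p.Prime := ⟨hp⟩
  have hnil : Group.IsNilpotent ↥P := hP.isNilpotent
  exact h.comm_solvable hPX hn inferInstance

theorem le_centralizer_pgroup [Finite G] (h : RC J X) {p : ℕ} (hp : p.Prime) (hPX : P ≤ X)
    (hn : X ≤ Subgroup.normalizer (P : Set G)) (hP : IsPGroup p P) :
    J ≤ Subgroup.centralizer (P : Set G) :=
  Subgroup.commutator_eq_bot_iff_le_centralizer.mp (h.comm_pgroup hp hPX hn hP)

/-- A component of `X` centralizes `O_p(X)`. -/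
theorem le_centralizer_rp [Finite G] (h : RC J X) {p : ℕ} (hp : p.Prime) :
    J ≤ Subgroup.centralizer ((rp p X : Subgroup G) : Set G) :=
  h.le_centralizer_pgroup hp (rp_le p X) (le_normalizer_rp p X) (rp_isPGroup p X)

end RC

/-- Transfer of internal quasisimplicity along an isomorphism of subgroups. -/
theorem qs_of_mulEquiv {G' : Type*} [Group G'] {L : Subgroup G} {L' : Subgroup G'}
    (e : ↥L ≃* ↥L') (h : QS L) (hne : L ≠ ⊥) : QS L' :=
  qs_of_isQuasisimple (isQuasisimple_of_mulEquiv e (isQuasisimple_of_qs h hne))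

theorem subgroupOf_map_subtype_eq {X : Subgroup G} (K : Subgroup X) :
    (K.map X.subtype).subgroupOf X = K := by
  rw [← Subgroup.comap_subtype, Subgroup.comap_map_eq_self_of_injective X.subtype_injective]

/-- A component of the group `↥X` gives a relative component of `X`. -/
theorem rc_of_isComponent {X : Subgroup G} {K : Subgroup X} (hK : IsComponent K) :
    RC (K.map X.subtype) X := by
  refine ⟨Subgroup.map_subtype_le K, ?_, ?_, ?_⟩
  · unfold SN
    rw [subgroupOf_map_subtype_eq]
    exact hK.1
  · exact qs_of_isQuasisimple (isQuasisimple_of_mulEquiv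
      (K.equivMapOfInjective X.subtype X.subtype_injective) hK.2)
  · intro h
    rw [Subgroup.map_eq_bot_iff_of_injective _ X.subtype_injective] at h
    exact isComponent_ne_bot hK h

/-- No relative components: the layer of `↥X` is trivial. -/
theorem layer_eq_bot_of_no_rc {X : Subgroup G} (h : ∀ J, ¬ RC J X) : layer ↥X = ⊥ := by
  unfold layer
  rw [eq_bot_iff]
  apply sSup_le
  intro K hK
  exact absurd (rc_of_isComponent hK) (h _)

/-- Conjugates of components are components of the conjugate subgroup. -/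
theorem RC.conj {J X : Subgroup G} (h : RC J X) (g : G) :
    RC (J.map (MulAut.conj g).toMonoidHom) (X.map (MulAut.conj g).toMonoidHom) := by
  refine ⟨Subgroup.map_mono h.le, ?_, ?_, ?_⟩
  · unfold SN
    have h1 := h.sn
    unfold SN at h1
    have h2 := Subgroup.IsSubnormal.map (f := (X.equivMapOfInjective (MulAut.conj g).toMonoidHom
      (MulAut.conj g).injective).toMonoidHom) (MulEquiv.surjective _) h1
    have h3 : (J.subgroupOf X).map (X.equivMapOfInjective (MulAut.conj g).toMonoidHom
        (MulAut.conj g).injective).toMonoidHom =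
        (J.map (MulAut.conj g).toMonoidHom).subgroupOf (X.map (MulAut.conj g).toMonoidHom) := by
      ext ⟨y, hy⟩
      constructor
      · rintro ⟨x, hx, hxy⟩
        have hx' : (x : G) ∈ J := Subgroup.mem_subgroupOf.mp hx
        have hval : (MulAut.conj g).toMonoidHom (x : G) = y := by
          have := congrArg Subtype.val hxy
          exact (Subgroup.coe_equivMapOfInjective_apply X _ (MulAut.conj g).injective x).symm.trans
            this
        exact Subgroup.mem_subgroupOf.mpr ⟨x, hx', hval⟩
      · intro hy'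
        obtain ⟨x, hx, hxy⟩ := Subgroup.mem_subgroupOf.mp hy'
        refine ⟨⟨x, h.le hx⟩, Subgroup.mem_subgroupOf.mpr hx, ?_⟩
        apply Subtype.ext
        rw [← hxy]
        exact Subgroup.coe_equivMapOfInjective_apply X _ (MulAut.conj g).injective ⟨x, h.le hx⟩
    rwa [h3] at h2
  · exact qs_of_mulEquiv (J.equivMapOfInjective _ (MulAut.conj g).injective) h.qs h.ne
  · intro hb
    rw [Subgroup.map_eq_bot_iff_of_injective _ (MulAut.conj g).injective] at hb
    exact h.ne hb

theorem RC.conj_of_mem {J X : Subgroup G} (h : RC J X) {g : G}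
    (hg : g ∈ Subgroup.normalizer (X : Set G)) : RC (J.map (MulAut.conj g).toMonoidHom) X := by
  have := h.conj g
  rwa [map_conj_eq_of_mem_normalizer hg] at this

/-- A set of subgroups permuted under conjugation by `K` has join normalized by `K`. -/
theorem le_normalizer_sSup {K : Subgroup G} {𝒮 : Set (Subgroup G)}
    (h : ∀ k ∈ K, ∀ W ∈ 𝒮, W.map (MulAut.conj k).toMonoidHom ∈ 𝒮) :
    K ≤ Subgroup.normalizer ((sSup 𝒮 : Subgroup G) : Set G) :=
  le_normalizer_sSup_of_perm (fun k hk W hW => h k hk W hW)

/-- The join of all components of `X` is normalized by whatever normalizes `X`. -/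
theorem le_normalizer_sSup_rc {K X : Subgroup G} (hK : K ≤ Subgroup.normalizer (X : Set G)) :
    K ≤ Subgroup.normalizer ((sSup {J | RC J X} : Subgroup G) : Set G) :=
  le_normalizer_sSup (fun _ hk _ hW => RC.conj_of_mem hW (hK hk))

theorem sSup_rc_le (X : Subgroup G) : sSup {J | RC J X} ≤ X :=
  sSup_le fun _ hJ => hJ.le

/-- A nontrivial subgroup has a component or a nontrivial `O_p`. -/
theorem exists_rc_or_rp [Finite G] {N : Subgroup G} (hne : N ≠ ⊥) :
    (∃ J, RC J N) ∨ ∃ p : ℕ, p.Prime ∧ rp p N ≠ ⊥ := by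
  have htop : (⊤ : Subgroup N) ≠ ⊥ := by
    intro h
    apply hne
    rw [eq_bot_iff]
    intro x hx
    have : (⟨x, hx⟩ : N) ∈ (⊤ : Subgroup N) := trivial
    rw [h, Subgroup.mem_bot] at this
    exact congrArg Subtype.val this
  obtain ⟨L, hL, hLsn, -, hcase⟩ :=
    exists_minimal_subnormal (G := ↥N) (N := ⊤) Subgroup.IsSubnormal.top htop
  rcases hcase with hqs | ⟨p, hp, hLp⟩
  · left
    refine ⟨L.map N.subtype, Subgroup.map_subtype_le L, ?_, ?_, ?_⟩
    · unfold SN
      rw [subgroupOf_map_subtype_eq]
      exact hLsn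
    · exact qs_of_mulEquiv (L.equivMapOfInjective N.subtype N.subtype_injective) hqs hL
    · intro h
      rw [Subgroup.map_eq_bot_iff_of_injective _ N.subtype_injective] at h
      exact hL h
  · right
    refine ⟨p, hp, ?_⟩
    rw [Ne, rp_eq_bot_iff]
    intro h
    have h1 := Cfsg.Agent.Lib.Helper30.le_pCore_of_subnormal hLsn hLp
    rw [h] at h1
    exact hL (eq_bot_iff.mpr h1)

end Cfsg.Agent.Lib.Helper41.TW
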