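import Cfsg.Agent.Lib.Helper41.TW2

/-!
# Thompson–Wielandt setting: the Thompson `A × B` step
-/

set_option autoImplicit false

namespace Cfsg.Agent.Lib.Helper41.TW

open Cfsg Cfsg.Agent.Lib.Helper66

variable {G : Type*} [Group G] {X Y A1 B1 A2 B2 : Subgroup G}

namespace Setting

/-- `O_q(B2) ≤ O_q(X) ∩ Y`. -/
theorem rp_B2_le_inf (S : Setting X Y A1 B1 A2 B2) (q : ℕ) : rp q B2 ≤ rp q X ⊓ Y :=
  le_inf (S.rp_B2_le_rp_X q) ((rp_le q B2).trans S.B2_le_Y)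

/-- If `O_q(B2) ≠ 1`, then `C_{O_q(X)}(O_q(X) ∩ Y) ≤ O_q(X) ∩ Y`. -/
theorem rp_inf_centralizer_le (S : Setting X Y A1 B1 A2 B2) {q : ℕ} (hB : rp q B2 ≠ ⊥) :
    rp q X ⊓ Subgroup.centralizer ((rp q X ⊓ Y : Subgroup G) : Set G) ≤ rp q X ⊓ Y := by
  refine le_inf inf_le_left (inf_le_right.trans ?_)
  exact (Subgroup.centralizer_le (S.rp_B2_le_inf q)).trans (S.centralizer_rp_B2_le q hB)

/-- The Thompson `A × B` step: if `O_q(B2) ≠ 1`, a `q'`-element `y` of `X` commuting with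
`O_q(X) ∩ Y` commutes with `O_q(X)`. -/
theorem thompson_step [Finite G] (S : Setting X Y A1 B1 A2 B2) {q : ℕ} (hq : q.Prime)
    (hB : rp q B2 ≠ ⊥) {y : G} (hyX : y ∈ X) (hy : (orderOf y).Coprime q)
    (hc : ∀ b ∈ rp q X ⊓ Y, Commute y b) : ∀ c ∈ rp q X, Commute y c := by
  have : Fact q.Prime := ⟨hq⟩
  refine Cfsg.Agent.Lib.Helper30.thompson_AxB q (Q := rp q X) (B := rp q X ⊓ Y) (rp_isPGroup q X)
    ((rp_isPGroup q X).to_le inf_le_left) ?_ (le_normalizer_rp q X hyX) hy hc ?_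
  · exact inf_le_left.trans ((rp_le q X).trans (le_normalizer_rp q X))
  · intro c hc'
    exact hc c (S.rp_inf_centralizer_le hB hc')

/-- If `O_q(B2) ≠ 1`, then `C_X(O_q(X)) ≤ A1`. -/
theorem inf_centralizer_rp_le_A1 (S : Setting X Y A1 B1 A2 B2) {q : ℕ} (hB : rp q B2 ≠ ⊥) :
    X ⊓ Subgroup.centralizer ((rp q X : Subgroup G) : Set G) ≤ A1 := by
  apply S.le_A1 inf_le_left
  · exact inf_le_right.trans ((Subgroup.centralizer_le (S.rp_B2_le_rp_X q)).trans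
      (S.centralizer_rp_B2_le q hB))
  · exact inf_le_normalizer_inf Subgroup.le_normalizer
      ((le_normalizer_rp q X).trans (normalizer_le_normalizer_centralizer _))

end Setting

end Cfsg.Agent.Lib.Helper41.TW
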