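import Cfsg.Agent.Lib.Helper41.TW3

/-!
# Thompson–Wielandt setting: translation lemmas

From the relative notions (`rp`, `RC`) back to `generalizedFittingSubgroup`, and from the
hypotheses of the theorem to the abstract `Setting`.
-/

set_option autoImplicit false

namespace Cfsg.Agent.Lib.Helper41.TW

open Cfsg Cfsg.Agent.Lib.Helper66

variable {G : Type*} [Group G]

/-- If `X` has no components and `O_r(X) = 1` for all primes `r ≠ p`, then `F*(X) = O_p(X)`. -/
theorem gfs_eq [Finite G] {X : Subgroup G} {p : ℕ} (hp : p.Prime) (h1 : ∀ J, ¬ RC J X)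
    (h2 : ∀ r : ℕ, r.Prime → r ≠ p → rp r X = ⊥) :
    generalizedFittingSubgroup ↥X = pCore p ↥X := by
  unfold generalizedFittingSubgroup
  rw [layer_eq_bot_of_no_rc h1, bot_sup_eq, fitting_eq_iSup_pCore]
  apply le_antisymm
  · apply iSup₂_le
    intro r hr
    by_cases hrp : r = p
    · subst hrp; exact le_rfl
    · rw [(rp_eq_bot_iff r X).mp (h2 r hr hrp)]
      exact bot_le
  · exact le_iSup₂ (f := fun (q : ℕ) (_ : q.Prime) => pCore q ↥X) p hp

theorem gfs_eq_of_normal [Finite G] {N X : Subgroup G} {p : ℕ} (hp : p.Prime) (hNX : N ≤ X)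
    (hn : X ≤ Subgroup.normalizer (N : Set G)) (h1 : ∀ J, ¬ RC J X)
    (h2 : ∀ r : ℕ, r.Prime → r ≠ p → rp r X = ⊥) :
    generalizedFittingSubgroup ↥N = pCore p ↥N := by
  apply gfs_eq hp
  · intro J hJ
    exact h1 J (hJ.of_normal hNX hn)
  · intro r hr hrp
    have := rp_mono (p := r) hNX hn
    rw [h2 r hr hrp] at this
    exact eq_bot_iff.mpr this

/-- A finite group that is not a `p`-group has order divisible by another prime. -/
theorem not_isPGroup_exists [Finite G] {p : ℕ} {A : Subgroup G} (h : ¬ IsPGroup p ↥A) :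
    ∃ q : ℕ, q.Prime ∧ p ≠ q ∧ q ∣ Nat.card A := by
  by_contra hcon
  apply h
  have hpos : Nat.card A ≠ 0 := Nat.card_pos.ne'
  have hall : ∀ q : ℕ, q.Prime → q ∣ Nat.card A → q = p := by
    intro q hq hd
    by_contra hne
    exact hcon ⟨q, hq, fun e => hne e.symm, hd⟩
  have : Nat.card A = p ^ (Nat.card A).factorization p :=
    Nat.eq_pow_of_factorization_eq_single hpos (by
      ext q
      by_cases hqp : q = p
      · subst hqp; simp
      · rw [Finsupp.single_apply, if_neg (fun e => hqp e.symm)]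
        by_contra hne
        have hq : q.Prime := Nat.prime_of_mem_primeFactors (by
          rw [← Nat.support_factorization]; exact Finsupp.mem_support_iff.mpr hne)
        have hd : q ∣ Nat.card A := Nat.dvd_of_factorization_pos hne
        exact hqp (hall q hq hd))
  exact IsPGroup.of_card this

/-- A core-free maximal subgroup is "primitive". -/
theorem prim_of_coatom {M : Subgroup G} (hmax : IsCoatom M) (hcore : M.normalCore = ⊥) :
    ∀ N : Subgroup G, N ≤ M → M ≤ Subgroup.normalizer (N : Set G) → N ≠ ⊥ →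
      Subgroup.normalizer (N : Set G) ≤ M := by
  intro N hNM hn hne
  rcases eq_or_lt_of_le hn with h | h
  · exact h.symm.le
  · exfalso
    have htop := hmax.2 _ h
    have hN : N.Normal := Subgroup.normalizer_eq_top_iff.mp htop
    have : N ≤ M.normalCore := (Subgroup.normal_le_normalCore).mpr hNM
    rw [hcore] at this
    exact hne (eq_bot_iff.mpr this)

/-- The hypotheses of the Thompson–Wielandt statement give the abstract setting. -/
theorem setting_of_hyps [Finite G] (M₁ M₂ : Subgroup G) (hmax : IsCoatom M₁) (g : G)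
    (hconj : M₂ = M₁.map (MulAut.conj g).toMonoidHom) (hne : M₁ ≠ M₂)
    (hcore : M₁.normalCore = ⊥)
    (A B : ℕ → Subgroup G) (hA0 : A 0 = M₁) (hB0 : B 0 = M₂)
    (hA : ∀ i, A (i + 1) = ((A i ⊓ B i).subgroupOf M₁).normalCore.map M₁.subtype)
    (hB : ∀ i, B (i + 1) = ((A i ⊓ B i).subgroupOf M₂).normalCore.map M₂.subtype) :
    Setting M₁ M₂ (A 1) (B 1) (A 2) (B 2) := by
  have hmax2 : IsCoatom M₂ := by
    rw [hconj]
    exact (OrderIso.isCoatom_iff (MulEquiv.mapSubgroup (MulAut.conj g)) M₁).mpr hmax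
  have hcore2 : M₂.normalCore = ⊥ := by
    rw [eq_bot_iff, ← hcore]
    intro x hx c
    have h1 : g * c * x * (g * c)⁻¹ ∈ M₂ := hx (g * c)
    rw [hconj, Cfsg.Agent.Lib.Helper41.mem_map_conj_iff] at h1
    have e : g⁻¹ * (g * c * x * (g * c)⁻¹) * g = c * x * c⁻¹ := by group
    rwa [e] at h1
  refine ⟨prim_of_coatom hmax hcore, prim_of_coatom hmax2 hcore2, ?_, ?_, ?_, ?_, ?_, ?_, ?_⟩
  · intro h
    rcases eq_or_lt_of_le h with h' | h'
    · exact hne h'
    · exact hmax2.1 (hmax.2 _ h')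
  · intro h
    rcases eq_or_lt_of_le h with h' | h'
    · exact hne h'.symm
    · exact hmax.1 (hmax2.2 _ h')
  · intro b
    rw [show (1 : ℕ) = 0 + 1 from rfl, hA 0, mem_core_iff, hA0, hB0]
    constructor
    · rintro ⟨hb, h⟩
      exact ⟨hb, fun x hx => (h x hx).2⟩
    · rintro ⟨hb, h⟩
      exact ⟨hb, fun x hx => ⟨M₁.mul_mem (M₁.mul_mem hx hb) (M₁.inv_mem hx), h x hx⟩⟩
  · intro b
    rw [show (1 : ℕ) = 0 + 1 from rfl, hB 0, mem_core_iff, hA0, hB0]
    constructor
    · rintro ⟨hb, h⟩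
      exact ⟨hb, fun x hx => (h x hx).1⟩
    · rintro ⟨hb, h⟩
      exact ⟨hb, fun x hx => ⟨h x hx, M₂.mul_mem (M₂.mul_mem hx hb) (M₂.inv_mem hx)⟩⟩
  · intro b
    rw [show (2 : ℕ) = 1 + 1 from rfl, hA 1, mem_core_iff]
    rfl
  · intro b
    rw [show (2 : ℕ) = 1 + 1 from rfl, hB 1, mem_core_iff]
    constructor
    · rintro ⟨hb, h⟩
      exact ⟨hb, fun x hx => ⟨(h x hx).2, (h x hx).1⟩⟩
    · rintro ⟨hb, h⟩
      exact ⟨hb, fun x hx => ⟨(h x hx).2, (h x hx).1⟩⟩
  · intro p
    rw [hconj, card_rp_map_conj]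

end Cfsg.Agent.Lib.Helper41.TW
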