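import Cfsg.Agent.Lib.Helper41.TW4
import Cfsg.Agent.Lib.Helper78.TWFR
import Cfsg.Agent.Lib.Helper85.TWQS
import Cfsg.Agent.Lib.Helper89.TWS2
import Cfsg.Agent.Lib.Helper89.TWS4A
import Cfsg.Agent.Lib.Helper34.TWS4B
import Cfsg.Agent.Lib.Helper32.TWS4C
import Cfsg.Agent.Lib.Helper12.TWS4D
import Cfsg.Agent.Lib.Helper12.TWS1A
import Cfsg.Agent.Lib.Helper16.TWS1I
import Cfsg.Agent.Lib.Helper73.TWS3R
import Cfsg.Agent.Lib.Helper64.TWS1II
import Cfsg.Agent.Lib.Helper64.TWS3C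

/-!
# Thompson–Wielandt setting: assembly of the main theorem

Pieces proved by helper78 (FR), helper85 (QS), helper89 (S2, S4A), helper34 (S4B),
helper32 (S4C), helper12 (S4D, S1A), helper16 (S1I), helper73 (S3R), helper64 (S1II, S3C).
-/

set_option autoImplicit false

namespace Cfsg.Agent.Lib.Helper41.TW

open Cfsg Cfsg.Agent.Lib.Helper66

variable {G : Type*} [Group G] [Finite G] {X Y A1 B1 A2 B2 : Subgroup G}

/-- Step 1: if `B2 ≠ 1` then `A2` has no components. -/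
theorem step1 (S : Setting X Y A1 B1 A2 B2) (hB2 : B2 ≠ ⊥) : ∀ J, ¬ RC J A2 := by
  intro J0 h0
  have hYX := Cfsg.Agent.Lib.Helper12.TWP.step1a S h0
  have hI : ∀ J1, ¬ RC J1 B2 := by
    intro J1 h1
    have hXY := Cfsg.Agent.Lib.Helper12.TWP.step1a S.symm h1
    have e1 := Cfsg.Agent.Lib.Helper16.TWP.step1_I S hYX hXY h1
    have e2 := Cfsg.Agent.Lib.Helper16.TWP.step1_I S.symm hXY hYX h0
    have heq : {J | RC J X} = {J | RC J Y} := by
      ext J; exact ⟨fun h => e2 J h, fun h => e1 J h⟩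
    have hX : sSup {J | RC J X} ≤ X := sSup_rc_le X
    have hnX : X ≤ Subgroup.normalizer ((sSup {J | RC J X} : Subgroup G) : Set G) :=
      le_normalizer_sSup_rc Subgroup.le_normalizer
    have hnY : Y ≤ Subgroup.normalizer ((sSup {J | RC J X} : Subgroup G) : Set G) := by
      rw [heq]; exact le_normalizer_sSup_rc Subgroup.le_normalizer
    have hbot := S.not_both hX hnX hnY
    have hJ0 : RC J0 X := h0.of_normal S.A2_le_X S.X_norm_A2
    have : J0 ≤ sSup {J | RC J X} := le_sSup hJ0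
    rw [hbot] at this
    exact h0.ne (eq_bot_iff.mpr this)
  rcases exists_rc_or_rp hB2 with ⟨J1, h1⟩ | ⟨q, hq, hB⟩
  · exact hI J1 h1
  · exact hI J0 (Cfsg.Agent.Lib.Helper64.TWP.step1_II S hYX h0 hq hB
      (fun J C hqs hne hCJ hn hC =>
        Cfsg.Agent.Lib.Helper85.TWP.qs_eq_of_pprime hqs hne hq hCJ hn hC))

/-- Step 3: `O_r(X) = 1` for all primes `r ≠ p`. -/
theorem step3_rp (S : Setting X Y A1 B1 A2 B2) {p r : ℕ} (hp : p.Prime) (hr : r.Prime)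
    (hrp : r ≠ p) (hA : rp p A2 ≠ ⊥) (hB : rp p B2 ≠ ⊥) : rp r X = ⊥ := by
  have h1 := Cfsg.Agent.Lib.Helper73.TWP.step3_rp_le S hp hr hrp hA hB
  have h2 := Cfsg.Agent.Lib.Helper73.TWP.step3_rp_le S.symm hp hr hrp hB hA
  have heq : rp r X = rp r Y := le_antisymm h1 h2
  apply S.not_both (rp_le r X) (le_normalizer_rp r X)
  rw [heq]; exact le_normalizer_rp r Y

/-- Step 4: if `O_p(X) ≠ 1` then `A2` is a `p`-group. -/
theorem step4 (S : Setting X Y A1 B1 A2 B2) {p : ℕ} (hp : p.Prime) (hne : rp p X ≠ ⊥) :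
    IsPGroup p ↥A2 := by
  by_contra hcon
  obtain ⟨q, hq, hpq, hdvd⟩ := not_isPGroup_exists hcon
  have : Fact q.Prime := ⟨hq⟩
  obtain ⟨Q, -, hQA, hQ, hidx⟩ := Cfsg.Agent.Lib.Helper41.exists_sylow_ge (p := q) A2 ⊥
    (IsPGroup.of_bot) bot_le
  have h4a : rp p Y ≤ X := by
    refine Cfsg.Agent.Lib.Helper89.TWP.step4a S hp hq hpq hdvd ?_
    intro a ha haq r hr
    refine Cfsg.Agent.Lib.Helper78.TWP.lemma_fr hp hq hpq haq (rp_isPGroup p Y) ?_ ?_ ?_ hr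
    · rw [Subgroup.zpowers_le]; exact S.A2_le_B1 ha
    · rw [Subgroup.zpowers_le]; exact le_normalizer_rp p Y (S.A2_le_Y ha)
    · exact (rp_le p Y).trans S.Y_norm_B1
  by_cases hQne : Q = ⊥
  · subst hQne
    apply hidx
    rw [Subgroup.relIndex_bot_left]
    exact hdvd
  · have h4b := Cfsg.Agent.Lib.Helper34.TWP.step4b S hq hQA hQ hidx hQne
    have h4c : rp p X ⊓ Y ≤ rp p Y := by
      refine Cfsg.Agent.Lib.Helper32.TWP.step4c S hp hq hpq hQA hQ h4b ?_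
      intro R hR hQR hRB r hr
      exact Cfsg.Agent.Lib.Helper78.TWP.lemma_fr hp hq hpq hQ hR (hQA.trans S.A2_le_B1) hQR hRB hr
    exact Cfsg.Agent.Lib.Helper12.TWP.step4d S hp hne h4a h4c

/-- The Thompson–Wielandt theorem in the abstract setting. -/
theorem main (S : Setting X Y A1 B1 A2 B2) (hA2 : A2 ≠ ⊥) (hB2 : B2 ≠ ⊥) :
    ∃ p : ℕ, p.Prime ∧ IsPGroup p ↥(A2 ⊔ B2) ∧ (∀ J, ¬ RC J X) ∧ (∀ J, ¬ RC J Y) ∧
      (∀ r : ℕ, r.Prime → r ≠ p → rp r X = ⊥) ∧ (∀ r : ℕ, r.Prime → r ≠ p → rp r Y = ⊥) := by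
  have hnoA := step1 S hB2
  have hnoB := step1 S.symm hA2
  have hpA : ∃ p : ℕ, p.Prime ∧ rp p A2 ≠ ⊥ := by
    rcases exists_rc_or_rp hA2 with ⟨J, hJ⟩ | h
    · exact absurd hJ (hnoA J)
    · exact h
  have hpB : ∃ q : ℕ, q.Prime ∧ rp q B2 ≠ ⊥ := by
    rcases exists_rc_or_rp hB2 with ⟨J, hJ⟩ | h
    · exact absurd hJ (hnoB J)
    · exact h
  obtain ⟨p, hp, hA⟩ := hpA
  obtain ⟨q, hq, hB⟩ := hpB
  have hB' : rp p B2 ≠ ⊥ := by
    by_cases hpq : p = q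
    · subst hpq; exact hB
    · exact Cfsg.Agent.Lib.Helper89.TWP.step2 S hp hq hpq hA hB
  refine ⟨p, hp, ?_, ?_, ?_, ?_, ?_⟩
  · have hX : rp p X ≠ ⊥ := fun h => hA (eq_bot_iff.mpr (h ▸ S.rp_A2_le_rp_X p))
    have hY : rp p Y ≠ ⊥ := fun h => hB' (eq_bot_iff.mpr (h ▸ S.rp_B2_le_rp_Y p))
    exact IsPGroup.to_sup_of_normal_left' (step4 S hp hX) (step4 S.symm hp hY)
      (S.B2_le_X.trans S.X_norm_A2)
  · intro J hJ
    exact hnoA J (Cfsg.Agent.Lib.Helper64.TWP.step3_comp S hp hA hB' hJ)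
  · intro J hJ
    exact hnoB J (Cfsg.Agent.Lib.Helper64.TWP.step3_comp S.symm hp hB' hA hJ)
  · intro r hr hrp
    exact step3_rp S hp hr hrp hA hB'
  · intro r hr hrp
    exact step3_rp S.symm hp hr hrp hB' hA

end Cfsg.Agent.Lib.Helper41.TW
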